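import Mathlib

/-!
# A finite search for self-centralising subgroups of order nine with dihedral automizer

The degrees of the exceptional characters of such a simple group, together with the values at one
involution, satisfy a system of equations and congruences; a verified search shows it has no solution.
-/

set_option autoImplicit false

namespace CfsgLib.DihNine

/-- Coefficient vectors. -/
abbrev Vec := ℤ × ℤ × ℤ × ℤ

/-- The components of a vector. -/
def comp : ℕ → Vec → ℤ
  | 0, v => v.1
  | 1, v => v.2.1
  | 2, v => v.2.2.1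
  | 3, v => v.2.2.2
  | _, _ => 0

/-- Right-hand sides of the linear relations. -/
def targ : ℕ → ℤ
  | 0 => -1
  | 1 => -1
  | _ => 0

/-- Value at the first element of order three. -/
def xv (v : Vec) : ℤ := 2 * (v.2.1 + v.2.2.2) - (v.1 + v.2.2.1)
/-- Value at the second element of order three. -/
def zv (v : Vec) : ℤ := 2 * (v.1 + v.2.2.1) - (v.2.1 + v.2.2.2)
/-- Value at the element of order six over the first. -/
def yv (v : Vec) : ℤ := v.1 - v.2.2.1
/-- Cubic weight. -/
def k1 (v : Vec) : ℤ := xv v * xv v * zv v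
/-- Cubic weight. -/
def k2 (v : Vec) : ℤ := xv v * zv v * zv v

/-- Admissible signed degrees. -/
def good (v : Vec) (d : ℤ) : Bool :=
  decide (4 ≤ d.natAbs) &&
    decide ((d + 4 * xv v + 4 * zv v) % 9 = 0 ∧ 0 ≤ d * (d + 4 * xv v + 4 * zv v)) &&
    decide ((d + xv v - 2 * zv v) % 9 = 0 ∧ 0 ≤ d * (d + xv v - 2 * zv v)) &&
    decide ((d + zv v - 2 * xv v) % 9 = 0 ∧ 0 ≤ d * (d + zv v - 2 * xv v))

/-- Admissible signed values at the involution. -/
def aok (v : Vec) (d a : ℤ) : Bool :=
  decide ((a - d) % 4 = 0 ∧ (a - yv v) % 3 = 0 ∧ a.natAbs < d.natAbs)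

/-- The data of one character. -/
structure Dat where
  v : Vec
  d : ℤ
  a : ℤ

/-- The system of conditions. -/
structure Valid (L : List Dat) : Prop where
  good_d : ∀ x ∈ L, good x.v x.d = true
  good_a : ∀ x ∈ L, aok x.v x.d x.a = true
  rel_d : ∀ j, (L.map fun x => comp j x.v * x.d).sum = targ j
  rel_a : ∀ j, (L.map fun x => comp j x.v * x.a).sum = targ j
  cubic : ∃ T : ℚ, 0 < T ∧ 1 + (L.map fun x => (k1 x.v : ℚ) / x.d).sum = T ∧
    1 + (L.map fun x => (k2 x.v : ℚ) / x.d).sum = T ∧
    T * (1 + (L.map fun x => (x.d : ℚ) ^ 2).sum) ≤ 648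
  invol : 1 + (L.map fun x => ((x.a * (xv x.v * zv x.v) : ℤ) : ℚ) / x.d).sum = 0

theorem Valid.of_perm {L L' : List Dat} (h : L.Perm L') (hv : Valid L) : Valid L' where
  good_d x hx := hv.good_d x (h.mem_iff.2 hx)
  good_a x hx := hv.good_a x (h.mem_iff.2 hx)
  rel_d j := by rw [← (h.map _).sum_eq]; exact hv.rel_d j
  rel_a j := by rw [← (h.map _).sum_eq]; exact hv.rel_a j
  cubic := by
    obtain ⟨T, h0, h1, h2, h3⟩ := hv.cubic
    exact ⟨T, h0, by rw [← (h.map _).sum_eq]; exact h1, by rw [← (h.map _).sum_eq]; exact h2,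
      by rw [← (h.map _).sum_eq]; exact h3⟩
  invol := by rw [← (h.map _).sum_eq]; exact hv.invol

/-! ## Search states -/

/-- A degree is fixed or bounded below in absolute value. -/
inductive St where
  | fx (d : ℤ)
  | low (L : ℕ)

/-- What a state says about a character. -/
def M (e : Vec × St) (x : Dat) : Prop :=
  x.v = e.1 ∧ match e.2 with
    | St.fx d => x.d = d
    | St.low L => L ≤ x.d.natAbs

/-- The first admissible value from `a` on. -/
def nxt (v : Vec) (g : ℤ) : ℕ → ℕ → ℕ
  | 0, a => a
  | f + 1, a => if good v (g * a) then a else nxt v g f (a + 1)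

theorem nxt_le (v : Vec) (g : ℤ) : ∀ (f a n : ℕ), a ≤ n → good v (g * n) = true → nxt v g f a ≤ n
  | 0, _, _, h, _ => h
  | f + 1, a, n, h, hn => by
    rw [nxt]
    split_ifs with hg
    · exact h
    · refine nxt_le v g f (a + 1) n ?_ hn
      rcases h.eq_or_lt with rfl | hlt
      · exact absurd hn hg
      · exact hlt

theorem le_nxt (v : Vec) (g : ℤ) : ∀ (f a : ℕ), a ≤ nxt v g f a
  | 0, _ => le_rfl
  | f + 1, a => by
    rw [nxt]
    split_ifs
    · exact le_rfl
    · exact (Nat.le_succ a).trans (le_nxt v g f (a + 1))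

/-- The sum of the fixed contributions to a relation. -/
def fixedSum (j : ℕ) : List (Vec × St) → ℤ
  | [] => 0
  | (v, St.fx d) :: es => comp j v * d + fixedSum j es
  | (_, St.low _) :: es => fixedSum j es

/-- The number of free entries in a relation. -/
def cnt (j : ℕ) : List (Vec × St) → ℕ
  | [] => 0
  | (_, St.fx _) :: es => cnt j es
  | (v, St.low _) :: es => if comp j v = 0 then cnt j es else cnt j es + 1

/-- Fix the first free entry of a relation. -/
def setOne (j : ℕ) (r : ℤ) : List (Vec × St) → Option (List (Vec × St))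
  | [] => some []
  | (v, St.fx d) :: es => (setOne j r es).map ((v, St.fx d) :: ·)
  | (v, St.low L) :: es =>
    if comp j v = 0 then (setOne j r es).map ((v, St.low L) :: ·)
    else if comp j v * comp j v = 1 then
      if good v (r * comp j v) && decide (L ≤ (r * comp j v).natAbs) then some ((v, St.fx (r * comp j v)) :: es)
      else none
    else some ((v, St.low L) :: es)

theorem sum_eq_fixed {j : ℕ} {es : List (Vec × St)} {L : List Dat} (h : List.Forall₂ M es L)
    (hc : cnt j es = 0) : (L.map fun x => comp j x.v * x.d).sum = fixedSum j es := by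
  induction h with
  | nil => rfl
  | @cons e x es L he _ ih =>
    obtain ⟨v, s⟩ := e
    obtain ⟨hv, hs⟩ := he
    simp only at hv
    cases s with
    | fx d =>
      simp only at hs
      rw [cnt] at hc
      rw [List.map_cons, List.sum_cons, fixedSum, ih hc, hv, hs]
    | low l =>
      rw [cnt] at hc
      split_ifs at hc with h0
      rw [List.map_cons, List.sum_cons, fixedSum, ih hc, hv, h0, zero_mul, zero_add]

theorem setOne_sound {j : ℕ} {es : List (Vec × St)} {L : List Dat} (h : List.Forall₂ M es L)
    (hg : ∀ x ∈ L, good x.v x.d = true) (hc : cnt j es = 1) (r : ℤ)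
    (hr : (L.map fun x => comp j x.v * x.d).sum = fixedSum j es + r) :
    ∃ es', setOne j r es = some es' ∧ List.Forall₂ M es' L := by
  induction h with
  | nil => simp [cnt] at hc
  | @cons e x es L he hes ih =>
    obtain ⟨v, s⟩ := e
    obtain ⟨hv, hs⟩ := he
    simp only at hv
    have hg' : ∀ y ∈ L, good y.v y.d = true := fun y hy => hg y (List.mem_cons_of_mem _ hy)
    rw [List.map_cons, List.sum_cons, hv] at hr
    cases s with
    | fx d =>
      simp only at hs
      rw [cnt] at hc
      rw [fixedSum, hs] at hr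
      obtain ⟨es', he', hm⟩ := ih hg' hc (by linarith)
      exact ⟨(v, St.fx d) :: es', by rw [setOne, he']; rfl, List.Forall₂.cons ⟨hv, hs⟩ hm⟩
    | low l =>
      simp only at hs
      rw [cnt] at hc
      rw [fixedSum] at hr
      rw [setOne]
      split_ifs at hc with h0
      · rw [h0, zero_mul, zero_add] at hr
        obtain ⟨es', he', hm⟩ := ih hg' hc (by linarith)
        exact ⟨(v, St.low l) :: es', by rw [if_pos h0, he']; rfl, List.Forall₂.cons ⟨hv, hs⟩ hm⟩
      · rw [if_neg h0]
        by_cases h1 : comp j v * comp j v = 1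
        · rw [if_pos h1]
          rw [sum_eq_fixed hes (by omega)] at hr
          have hd : r * comp j v = x.d := by
            have : r = comp j v * x.d := by linarith
            rw [this]
            calc comp j v * x.d * comp j v = (comp j v * comp j v) * x.d := by ring
              _ = x.d := by rw [h1, one_mul]
          rw [hd]
          have := hg x List.mem_cons_self
          rw [hv] at this
          rw [this, decide_eq_true hs]
          exact ⟨_, rfl, List.Forall₂.cons ⟨hv, rfl⟩ hes⟩
        · rw [if_neg h1]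
          exact ⟨_, rfl, List.Forall₂.cons ⟨hv, hs⟩ hes⟩

/-- One propagation step. -/
def propOne (j : ℕ) (es : List (Vec × St)) : Option (List (Vec × St)) :=
  if cnt j es = 0 then (if fixedSum j es = targ j then some es else none)
  else if cnt j es = 1 then setOne j (targ j - fixedSum j es) es else some es

theorem propOne_sound {j : ℕ} {es : List (Vec × St)} {L : List Dat} (h : List.Forall₂ M es L) (hL : Valid L) :
    ∃ es', propOne j es = some es' ∧ List.Forall₂ M es' L := by
  rw [propOne]
  split_ifs with h0 h1 h2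
  · exact ⟨es, rfl, h⟩
  · exact absurd (by rw [← sum_eq_fixed h h0]; exact hL.rel_d j) h1
  · exact setOne_sound h hL.good_d h2 _ (by rw [hL.rel_d j]; ring)
  · exact ⟨es, rfl, h⟩

/-- Propagation along a list of relations. -/
def propList : List ℕ → List (Vec × St) → Option (List (Vec × St))
  | [], es => some es
  | j :: js, es => (propOne j es).bind (propList js)

theorem propList_sound {L : List Dat} (hL : Valid L) : ∀ (js : List ℕ) {es : List (Vec × St)},
    List.Forall₂ M es L → ∃ es', propList js es = some es' ∧ List.Forall₂ M es' L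
  | [], es, h => ⟨es, rfl, h⟩
  | j :: js, es, h => by
    obtain ⟨e1, he1, h1⟩ := propOne_sound (j := j) h hL
    obtain ⟨e2, he2, h2⟩ := propList_sound hL js h1
    exact ⟨e2, by rw [propList, he1]; exact he2, h2⟩

/-! ## Bounds -/

/-- Lower and upper bound of a term, as fractions. -/
def term (k : Vec → ℤ) : Vec × St → (ℤ × ℤ) × (ℤ × ℤ)
  | (v, St.fx d) => ((k v * d, d * d), (k v * d, d * d))
  | (v, St.low L) =>
    if 0 ≤ k v then ((-k v, (nxt v (-1) 12 L : ℤ)), (k v, (nxt v 1 12 L : ℤ)))
    else ((k v, (nxt v 1 12 L : ℤ)), (-k v, (nxt v (-1) 12 L : ℤ)))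

/-- Addition of fractions. -/
def fadd (p q : ℤ × ℤ) : ℤ × ℤ := (p.1 * q.2 + q.1 * p.2, p.2 * q.2)

/-- Interval for a sum. -/
def bounds (c : ℤ) (k : Vec → ℤ) : List (Vec × St) → (ℤ × ℤ) × (ℤ × ℤ)
  | [] => ((c, 1), (c, 1))
  | e :: es => (fadd (term k e).1 (bounds c k es).1, fadd (term k e).2 (bounds c k es).2)

/-- The value of a fraction. -/
def qv (p : ℤ × ℤ) : ℚ := (p.1 : ℚ) / (p.2 : ℚ)

theorem qv_fadd {p q : ℤ × ℤ} (hp : 0 < p.2) (hq : 0 < q.2) :
    0 < (fadd p q).2 ∧ qv (fadd p q) = qv p + qv q := by
  refine ⟨mul_pos hp hq, ?_⟩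
  have h1 : (p.2 : ℚ) ≠ 0 := by exact_mod_cast hp.ne'
  have h2 : (q.2 : ℚ) ≠ 0 := by exact_mod_cast hq.ne'
  simp only [qv, fadd]
  push_cast
  field_simp

theorem four_le_of_good {v : Vec} {d : ℤ} (h : good v d = true) : 4 ≤ d.natAbs := by
  simp only [good, Bool.and_eq_true, decide_eq_true_eq] at h
  exact h.1.1.1

theorem recip_bounds {v : Vec} {l : ℕ} {d : ℤ} (hl : 4 ≤ l) (hld : l ≤ d.natAbs) (hg : good v d = true) :
    -(1 / ((nxt v (-1) 12 l : ℤ) : ℚ)) ≤ 1 / (d : ℚ) ∧ 1 / (d : ℚ) ≤ 1 / ((nxt v 1 12 l : ℤ) : ℚ) := by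
  have hp : (0 : ℚ) < ((nxt v 1 12 l : ℤ) : ℚ) := by
    have := le_nxt v 1 12 l
    have h0 : 0 < nxt v 1 12 l := by omega
    exact_mod_cast h0
  have hn : (0 : ℚ) < ((nxt v (-1) 12 l : ℤ) : ℚ) := by
    have := le_nxt v (-1) 12 l
    have h0 : 0 < nxt v (-1) 12 l := by omega
    exact_mod_cast h0
  rcases le_or_gt 0 d with hd | hd
  · have h := nxt_le v 1 12 l d.natAbs hld (by rw [one_mul, Int.natAbs_of_nonneg hd]; exact hg)
    have h' : ((nxt v 1 12 l : ℤ) : ℚ) ≤ (d : ℚ) := by
      have : (nxt v 1 12 l : ℤ) ≤ d := by omega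
      exact_mod_cast this
    refine ⟨le_trans (neg_nonpos.2 (by positivity)) (div_nonneg zero_le_one (by exact_mod_cast hd)), ?_⟩
    exact one_div_le_one_div_of_le hp h'
  · have h := nxt_le v (-1) 12 l d.natAbs hld (by
      rw [show (-1 : ℤ) * (d.natAbs : ℤ) = d by omega]; exact hg)
    have h' : ((nxt v (-1) 12 l : ℤ) : ℚ) ≤ -(d : ℚ) := by
      have : (nxt v (-1) 12 l : ℤ) ≤ -d := by omega
      exact_mod_cast this
    have hdq : (d : ℚ) < 0 := by exact_mod_cast hd
    refine ⟨?_, le_trans (div_nonpos_of_nonneg_of_nonpos zero_le_one hdq.le) (by positivity)⟩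
    have := one_div_le_one_div_of_le hn h'
    rw [one_div_neg_eq_neg_one_div] at this
    linarith

/-- Every free entry is bounded below by at least four. -/
def wf : List (Vec × St) → Bool
  | [] => true
  | (_, St.fx _) :: es => wf es
  | (_, St.low l) :: es => decide (4 ≤ l) && wf es

theorem term_sound (k : Vec → ℤ) {e : Vec × St} {x : Dat} (he : M e x) (hg : good x.v x.d = true)
    (hw : wf [e] = true) :
    0 < (term k e).1.2 ∧ 0 < (term k e).2.2 ∧ qv (term k e).1 ≤ (k x.v : ℚ) / x.d ∧
      (k x.v : ℚ) / x.d ≤ qv (term k e).2 := by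
  obtain ⟨v, s⟩ := e
  obtain ⟨hv, hs⟩ := he
  simp only at hv
  have hd4 := four_le_of_good hg
  rw [hv] at hg ⊢
  cases s with
  | fx d =>
    simp only at hs
    subst hs
    have hd : x.d ≠ 0 := by omega
    have h2 : 0 < x.d * x.d := mul_self_pos.2 hd
    have he : qv (k v * x.d, x.d * x.d) = (k v : ℚ) / x.d := by
      simp only [qv]
      push_cast
      rw [mul_div_mul_right _ _ (by exact_mod_cast hd : (x.d : ℚ) ≠ 0)]
    exact ⟨h2, h2, he.le, he.ge⟩
  | low l =>
    simp only at hs
    simp only [wf, Bool.and_true, decide_eq_true_eq] at hw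
    obtain ⟨h1, h2⟩ := recip_bounds hw hs hg
    have hp : 0 < (nxt v 1 12 l : ℤ) := by have := le_nxt v 1 12 l; omega
    have hn : 0 < (nxt v (-1) 12 l : ℤ) := by have := le_nxt v (-1) 12 l; omega
    rw [show (k v : ℚ) / (x.d : ℚ) = (k v : ℚ) * (1 / (x.d : ℚ)) by ring]
    rw [term]
    by_cases hk : 0 ≤ k v
    · rw [if_pos hk]
      have hk' : (0 : ℚ) ≤ (k v : ℚ) := by exact_mod_cast hk
      refine ⟨hn, hp, ?_, ?_⟩
      · have := mul_le_mul_of_nonneg_left h1 hk'
        simp only [qv]
        push_cast at this ⊢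
        simp only [div_eq_mul_inv, one_mul, neg_mul, mul_neg] at this ⊢
        linarith
      · have := mul_le_mul_of_nonneg_left h2 hk'
        simp only [qv]
        push_cast at this ⊢
        simp only [div_eq_mul_inv, one_mul, neg_mul, mul_neg] at this ⊢
        linarith
    · rw [if_neg hk]
      have hk' : (k v : ℚ) ≤ 0 := by
        have : k v ≤ 0 := by omega
        exact_mod_cast this
      refine ⟨hp, hn, ?_, ?_⟩
      · have := mul_le_mul_of_nonpos_left h2 hk'
        simp only [qv]
        push_cast at this ⊢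
        simp only [div_eq_mul_inv, one_mul, neg_mul, mul_neg] at this ⊢
        linarith
      · have := mul_le_mul_of_nonpos_left h1 hk'
        simp only [qv]
        push_cast at this ⊢
        simp only [div_eq_mul_inv, one_mul, neg_mul, mul_neg] at this ⊢
        linarith

theorem bounds_sound (c : ℤ) (k : Vec → ℤ) {es : List (Vec × St)} {L : List Dat} (h : List.Forall₂ M es L)
    (hg : ∀ x ∈ L, good x.v x.d = true) (hw : wf es = true) :
    0 < (bounds c k es).1.2 ∧ 0 < (bounds c k es).2.2 ∧
      qv (bounds c k es).1 ≤ (c : ℚ) + (L.map fun x => (k x.v : ℚ) / x.d).sum ∧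
      (c : ℚ) + (L.map fun x => (k x.v : ℚ) / x.d).sum ≤ qv (bounds c k es).2 := by
  induction h with
  | nil => simp [bounds, qv]
  | @cons e x es L he _ ih =>
    have hw' : wf [e] = true ∧ wf es = true := by
      obtain ⟨v, s⟩ := e
      cases s <;> simp [wf] at hw ⊢ <;> exact hw
    obtain ⟨i1, i2, i3, i4⟩ := ih (fun y hy => hg y (List.mem_cons_of_mem _ hy)) hw'.2
    obtain ⟨t1, t2, t3, t4⟩ := term_sound k he (hg x List.mem_cons_self) hw'.1
    obtain ⟨a1, a2⟩ := qv_fadd t1 i1
    obtain ⟨b1, b2⟩ := qv_fadd t2 i2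
    rw [bounds, List.map_cons, List.sum_cons]
    refine ⟨a1, b1, ?_, ?_⟩
    · rw [a2]; linarith
    · rw [b2]; linarith

/-- Lower bound for the sum of squares. -/
def sq : List (Vec × St) → ℤ
  | [] => 1
  | (_, St.fx d) :: es => d * d + sq es
  | (_, St.low l) :: es => (l : ℤ) * l + sq es

theorem sq_sound {es : List (Vec × St)} {L : List Dat} (h : List.Forall₂ M es L) :
    1 ≤ sq es ∧ (sq es : ℚ) ≤ 1 + (L.map fun x => (x.d : ℚ) ^ 2).sum := by
  induction h with
  | nil => simp [sq]
  | @cons e x es L he _ ih =>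
    obtain ⟨v, s⟩ := e
    obtain ⟨hv, hs⟩ := he
    rw [List.map_cons, List.sum_cons]
    cases s with
    | fx d =>
      simp only at hs
      rw [sq, hs]
      refine ⟨by nlinarith [ih.1, mul_self_nonneg d], ?_⟩
      push_cast
      nlinarith [ih.2]
    | low l =>
      simp only at hs
      rw [sq]
      refine ⟨by nlinarith [ih.1], ?_⟩
      have hsq : ((l : ℤ) * l : ℤ) ≤ x.d * x.d := by
        rw [← abs_mul_abs_self x.d, Int.abs_eq_natAbs]
        have h0 : (l : ℤ) ≤ (x.d.natAbs : ℤ) := by exact_mod_cast hs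
        exact mul_le_mul h0 h0 (by positivity) (by positivity)
      have hsq' : ((l : ℚ) * l) ≤ (x.d : ℚ) * x.d := by exact_mod_cast hsq
      push_cast
      nlinarith [ih.2]

/-- The combinations used. -/
def combos : List (ℕ × ℕ) := [(1, 0), (0, 1), (2, 1), (1, 2), (1, 1)]

/-- A combination of the cubic weights. -/
def kc (p q : ℕ) (v : Vec) : ℤ := (p : ℤ) * k1 v + (q : ℤ) * k2 v

/-- A combination refutes a state. -/
def closedAt (es : List (Vec × St)) (pq : ℕ × ℕ) : Bool :=
  decide (0 < pq.1 + pq.2) &&
    (decide ((bounds ((pq.1 : ℤ) + pq.2) (kc pq.1 pq.2) es).2.1 ≤ 0) ||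
      decide (648 * ((pq.1 : ℤ) + pq.2) * (bounds ((pq.1 : ℤ) + pq.2) (kc pq.1 pq.2) es).1.2 <
        (bounds ((pq.1 : ℤ) + pq.2) (kc pq.1 pq.2) es).1.1 * sq es))

/-- The difference of the cubic equations refutes a state. -/
def closedDiff (es : List (Vec × St)) : Bool :=
  decide (0 < (bounds 0 (fun v => k1 v - k2 v) es).1.1) || decide ((bounds 0 (fun v => k1 v - k2 v) es).2.1 < 0)

theorem sum_combo (L : List Dat) (a b : ℚ) (f g : Dat → ℚ) :
    (L.map fun x => a * f x + b * g x).sum = a * (L.map f).sum + b * (L.map g).sum := by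
  induction L with
  | nil => simp
  | cons x L ih => simp only [List.map_cons, List.sum_cons, ih]; ring

theorem closedAt_sound {es : List (Vec × St)} {L : List Dat} (h : List.Forall₂ M es L) (hL : Valid L)
    (hw : wf es = true) (pq : ℕ × ℕ) : closedAt es pq = false := by
  by_contra hc
  rw [Bool.not_eq_false] at hc
  simp only [closedAt, Bool.and_eq_true, Bool.or_eq_true, decide_eq_true_eq] at hc
  obtain ⟨hpq, hc⟩ := hc
  obtain ⟨T, hT, h1, h2, h3⟩ := hL.cubic
  obtain ⟨b1, b2, b3, b4⟩ := bounds_sound ((pq.1 : ℤ) + pq.2) (kc pq.1 pq.2) h hL.good_d hw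
  have hsum : (((pq.1 : ℤ) + pq.2 : ℤ) : ℚ) + (L.map fun x => (kc pq.1 pq.2 x.v : ℚ) / x.d).sum =
      ((pq.1 : ℚ) + pq.2) * T := by
    have e : (L.map fun x => (kc pq.1 pq.2 x.v : ℚ) / x.d) =
        (L.map fun x => (pq.1 : ℚ) * ((k1 x.v : ℚ) / x.d) + (pq.2 : ℚ) * ((k2 x.v : ℚ) / x.d)) := by
      refine List.map_congr_left fun x _ => ?_
      simp only [kc]
      push_cast
      ring
    rw [e, sum_combo]
    push_cast
    linear_combination (pq.1 : ℚ) * h1 + (pq.2 : ℚ) * h2
  rw [hsum] at b3 b4
  have hP : (0 : ℚ) < (pq.1 : ℚ) + pq.2 := by exact_mod_cast hpq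
  obtain ⟨s1, s2⟩ := sq_sound h
  rcases hc with hc | hc
  · have : qv (bounds ((pq.1 : ℤ) + pq.2) (kc pq.1 pq.2) es).2 ≤ 0 :=
      div_nonpos_of_nonpos_of_nonneg (by exact_mod_cast hc) (by exact_mod_cast b2.le)
    nlinarith
  · have hs0 : (0 : ℚ) ≤ (sq es : ℚ) := by exact_mod_cast (zero_le_one.trans s1)
    have h4 : qv (bounds ((pq.1 : ℤ) + pq.2) (kc pq.1 pq.2) es).1 * (sq es : ℚ) ≤
        648 * ((pq.1 : ℚ) + pq.2) := by
      calc _ ≤ ((pq.1 : ℚ) + pq.2) * T * (sq es : ℚ) := mul_le_mul_of_nonneg_right b3 hs0
        _ ≤ ((pq.1 : ℚ) + pq.2) * T * (1 + (L.map fun x => (x.d : ℚ) ^ 2).sum) :=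
            mul_le_mul_of_nonneg_left s2 (mul_pos hP hT).le
        _ = ((pq.1 : ℚ) + pq.2) * (T * (1 + (L.map fun x => (x.d : ℚ) ^ 2).sum)) := by ring
        _ ≤ ((pq.1 : ℚ) + pq.2) * 648 := mul_le_mul_of_nonneg_left h3 hP.le
        _ = _ := by ring
    have h5 : (((648 * ((pq.1 : ℤ) + pq.2) * (bounds ((pq.1 : ℤ) + pq.2) (kc pq.1 pq.2) es).1.2 : ℤ)) : ℚ) <
        (((bounds ((pq.1 : ℤ) + pq.2) (kc pq.1 pq.2) es).1.1 * sq es : ℤ) : ℚ) := by exact_mod_cast hc
    have hb : (0 : ℚ) < ((bounds ((pq.1 : ℤ) + pq.2) (kc pq.1 pq.2) es).1.2 : ℚ) := by exact_mod_cast b1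
    rw [qv, div_mul_eq_mul_div, div_le_iff₀ hb] at h4
    push_cast at h5
    linarith

theorem closedDiff_sound {es : List (Vec × St)} {L : List Dat} (h : List.Forall₂ M es L) (hL : Valid L)
    (hw : wf es = true) : closedDiff es = false := by
  by_contra hc
  rw [Bool.not_eq_false] at hc
  simp only [closedDiff, Bool.or_eq_true, decide_eq_true_eq] at hc
  obtain ⟨T, -, h1, h2, -⟩ := hL.cubic
  obtain ⟨b1, b2, b3, b4⟩ := bounds_sound 0 (fun v => k1 v - k2 v) h hL.good_d hw
  have hsum : ((0 : ℤ) : ℚ) + (L.map fun x => (((k1 x.v - k2 x.v : ℤ)) : ℚ) / x.d).sum = 0 := by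
    have e : (L.map fun x => (((k1 x.v - k2 x.v : ℤ)) : ℚ) / x.d) =
        (L.map fun x => (1 : ℚ) * ((k1 x.v : ℚ) / x.d) + (-1 : ℚ) * ((k2 x.v : ℚ) / x.d)) := by
      refine List.map_congr_left fun x _ => ?_
      push_cast
      ring
    rw [e, sum_combo]
    push_cast
    linarith
  rw [hsum] at b3 b4
  rcases hc with hc | hc
  · have : 0 < qv (bounds 0 (fun v => k1 v - k2 v) es).1 := div_pos (by exact_mod_cast hc) (by exact_mod_cast b1)
    linarith
  · have : qv (bounds 0 (fun v => k1 v - k2 v) es).2 < 0 :=
      div_neg_of_neg_of_pos (by exact_mod_cast hc) (by exact_mod_cast b2)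
    linarith

/-! ## Branching -/

/-- The case distinction at one position. -/
def children : ℕ → List (Vec × St) → List (List (Vec × St))
  | _, [] => [[]]
  | 0, (v, St.low l) :: es =>
    let m := min (nxt v 1 12 l) (nxt v (-1) 12 l)
    (if good v (m : ℤ) then [((v, St.fx (m : ℤ)) :: es)] else []) ++
      (if good v (-(m : ℤ)) then [((v, St.fx (-(m : ℤ))) :: es)] else []) ++ [((v, St.low (m + 1)) :: es)]
  | 0, e :: es => [e :: es]
  | i + 1, e :: es => (children i es).map (e :: ·)

theorem children_sound : ∀ (i : ℕ) {es : List (Vec × St)} {L : List Dat}, List.Forall₂ M es L →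
    (∀ x ∈ L, good x.v x.d = true) → ∃ c ∈ children i es, List.Forall₂ M c L
  | i, [], L, h, _ => ⟨[], by cases i <;> simp [children], h⟩
  | 0, (v, St.fx d) :: es, L, h, _ => ⟨_, by simp [children], h⟩
  | 0, (v, St.low l) :: es, L, h, hg => by
    cases h with
    | @cons _ x _ L he hes =>
      obtain ⟨hv, hs⟩ := he
      simp only at hv hs
      have hx := hg x List.mem_cons_self
      rw [hv] at hx
      have hm : min (nxt v 1 12 l) (nxt v (-1) 12 l) ≤ x.d.natAbs := by
        rcases le_or_gt 0 x.d with hd | hd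
        · exact (min_le_left _ _).trans (nxt_le v 1 12 l _ hs (by rw [one_mul, Int.natAbs_of_nonneg hd]; exact hx))
        · exact (min_le_right _ _).trans (nxt_le v (-1) 12 l _ hs (by
            rw [show (-1 : ℤ) * (x.d.natAbs : ℤ) = x.d by omega]; exact hx))
      simp only [children]
      set m := min (nxt v 1 12 l) (nxt v (-1) 12 l) with hmdef
      rcases hm.eq_or_lt with heq | hlt
      · rcases Int.natAbs_eq x.d with h1 | h1
        · refine ⟨(v, St.fx (m : ℤ)) :: es, ?_, List.Forall₂.cons ⟨hv, by show x.d = (m : ℤ); omega⟩ hes⟩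
          rw [if_pos (show good v (m : ℤ) = true by rw [show (m : ℤ) = x.d by omega]; exact hx)]
          simp
        · refine ⟨(v, St.fx (-(m : ℤ))) :: es, ?_, List.Forall₂.cons ⟨hv, by show x.d = -(m : ℤ); omega⟩ hes⟩
          rw [if_pos (show good v (-(m : ℤ)) = true by rw [show -(m : ℤ) = x.d by omega]; exact hx)]
          simp
      · exact ⟨(v, St.low (m + 1)) :: es, by simp, List.Forall₂.cons ⟨hv, by show m + 1 ≤ _; omega⟩ hes⟩
  | i + 1, e :: es, L, h, hg => by
    cases h with
    | @cons _ x _ L he hes =>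
      obtain ⟨c, hc, hcM⟩ := children_sound i hes (fun y hy => hg y (List.mem_cons_of_mem _ hy))
      exact ⟨e :: c, by simp only [children, List.mem_map]; exact ⟨c, hc, rfl⟩, List.Forall₂.cons he hcM⟩

/-- The first position with a free entry. -/
def firstLow : List (Vec × St) → Option ℕ
  | [] => none
  | (_, St.low _) :: _ => some 0
  | _ :: es => (firstLow es).map (· + 1)

/-- The free position contributing most to the width of a combination. -/
def widest (k : Vec → ℤ) : List (Vec × St) → ℕ → Option (ℕ × (ℤ × ℤ)) → Option (ℕ × (ℤ × ℤ))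
  | [], _, best => best
  | (_, St.fx _) :: es, i, best => widest k es (i + 1) best
  | (v, St.low l) :: es, i, best =>
    if k v = 0 then widest k es (i + 1) best
    else
      let w : ℤ × ℤ := fadd (|k v|, (nxt v 1 12 l : ℤ)) (|k v|, (nxt v (-1) 12 l : ℤ))
      match best with
      | none => widest k es (i + 1) (some (i, w))
      | some (j, b) =>
        if b.1 * w.2 < w.1 * b.2 then widest k es (i + 1) (some (i, w)) else widest k es (i + 1) (some (j, b))

/-- The most promising combination. -/
def bestCombo (es : List (Vec × St)) : List (ℕ × ℕ) → (ℕ × ℕ) → ℕ × ℕ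
  | [], b => b
  | pq :: rest, b =>
    let l1 := (bounds ((pq.1 : ℤ) + pq.2) (kc pq.1 pq.2) es).1
    let l0 := (bounds ((b.1 : ℤ) + b.2) (kc b.1 b.2) es).1
    if l0.1 * (l1.2 * ((pq.1 : ℤ) + pq.2)) <
        l1.1 * (l0.2 * ((b.1 : ℤ) + b.2)) then bestCombo es rest pq else bestCombo es rest b

/-- Choice of the position to branch on. -/
def pick (es : List (Vec × St)) : Option ℕ :=
  let b := bestCombo es combos (1, 0)
  match widest (kc b.1 b.2) es 0 none with
  | some (i, _) => some i
  | none => firstLow es

/-! ## The involution -/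

/-- Values to try. -/
def domain (d : ℤ) : List ℤ := (List.range (2 * d.natAbs)).map fun i : ℕ => (i : ℤ) - (d.natAbs : ℤ)

/-- All later components vanish. -/
def restZero (j : ℕ) (es : List (Vec × ℤ)) : Bool := es.all fun e => decide (comp j e.1 = 0)

/-- A value forced by a relation closing here. -/
def forced (v : Vec) (es : List (Vec × ℤ)) (r : ℕ → ℤ) : List ℕ → Option ℤ
  | [] => none
  | j :: js => if decide (comp j v * comp j v = 1) && restZero j es then some (r j * comp j v) else forced v es r js

/-- No assignment of values at the involution is possible. -/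
def invSearch : List (Vec × ℤ) → (ℤ × ℤ × ℤ × ℤ) → ℤ × ℤ → Bool
  | [], r, acc => !(decide (r = (0, 0, 0, 0)) && decide (acc.1 = 0))
  | (v, d) :: es, r, acc =>
    let cands := match forced v es (fun j => comp j r) [0, 1, 2, 3] with
      | some a => [a]
      | none => domain d
    cands.all fun a =>
      !aok v d a || invSearch es (r.1 - v.1 * a, r.2.1 - v.2.1 * a, r.2.2.1 - v.2.2.1 * a, r.2.2.2 - v.2.2.2 * a)
        (fadd acc (a * (xv v * zv v) * d, d * d))

theorem forced_sound {v : Vec} {a : ℤ} {L : List Dat} {es : List (Vec × ℤ)}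
    (hes : List.Forall₂ (fun e x => x.v = e.1 ∧ x.d = e.2) es L) (r : ℕ → ℤ)
    (hr : ∀ j, comp j v * a + (L.map fun x => comp j x.v * x.a).sum = r j) :
    ∀ (js : List ℕ) (b : ℤ), forced v es r js = some b → b = a
  | [], b, h => by simp [forced] at h
  | j :: js, b, h => by
    rw [forced] at h
    split_ifs at h with hc
    · simp only [Bool.and_eq_true, decide_eq_true_eq] at hc
      obtain ⟨h1, h2⟩ := hc
      have hz : (L.map fun x => comp j x.v * x.a).sum = 0 := by
        clear hr h
        induction hes with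
        | nil => rfl
        | @cons e x es L he _ ih =>
          simp only [restZero, List.all_cons, Bool.and_eq_true, decide_eq_true_eq] at h2
          rw [List.map_cons, List.sum_cons, ih (by simpa [restZero] using h2.2), he.1, h2.1, zero_mul, zero_add]
      have := hr j
      rw [hz, add_zero] at this
      cases h
      rw [← this]
      calc comp j v * a * comp j v = (comp j v * comp j v) * a := by ring
        _ = a := by rw [h1, one_mul]
    · exact forced_sound hes r hr js b h

theorem invSearch_sound : ∀ {es : List (Vec × ℤ)} {L : List Dat} (r : ℤ × ℤ × ℤ × ℤ) (acc : ℤ × ℤ),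
    List.Forall₂ (fun e x => x.v = e.1 ∧ x.d = e.2) es L → (∀ x ∈ L, aok x.v x.d x.a = true) →
    (∀ x ∈ L, x.d ≠ 0) → 0 < acc.2 → (∀ j, (L.map fun x => comp j x.v * x.a).sum = comp j r) →
    qv acc + (L.map fun x => ((x.a * (xv x.v * zv x.v) : ℤ) : ℚ) / x.d).sum = 0 →
    invSearch es r acc = false := by
  intro es
  induction es with
  | nil =>
    intro L r acc h _ _ hpos hr hs
    cases h
    obtain ⟨r0, r1, r2, r3⟩ := r
    have e0 := hr 0
    have e1 := hr 1
    have e2 := hr 2
    have e3 := hr 3
    simp [comp] at e0 e1 e2 e3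
    simp [qv, hpos.ne'] at hs
    simp [invSearch, ← e0, ← e1, ← e2, ← e3, hs]
  | cons e es ih =>
    intro L r acc h ha hd hpos hr hs
    cases h with
    | @cons _ x _ L he hes =>
      obtain ⟨v, d⟩ := e
      obtain ⟨hv, hdd⟩ := he
      simp only at hv hdd
      have hax := ha x List.mem_cons_self
      have hdx := hd x List.mem_cons_self
      rw [hv, hdd] at hax
      rw [hdd] at hdx
      simp only [List.map_cons, List.sum_cons, hv, hdd] at hr hs
      simp only [invSearch]
      rw [List.all_eq_false]
      refine ⟨x.a, ?_, ?_⟩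
      · generalize hf : forced v es (fun j => comp j r) [0, 1, 2, 3] = o
        cases o with
        | some b =>
          have := forced_sound hes (fun j => comp j r) (a := x.a) hr _ b hf
          simp [this]
        | none =>
          simp only [domain, List.mem_map, List.mem_range]
          simp only [aok, decide_eq_true_eq] at hax
          exact ⟨(x.a + d.natAbs).toNat, by omega, by omega⟩
      · rw [hax, Bool.not_true, Bool.false_or, Bool.not_eq_true]
        have h2 : 0 < d * d := mul_self_pos.2 hdx
        obtain ⟨f1, f2⟩ := qv_fadd (q := (x.a * (xv v * zv v) * d, d * d)) hpos h2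
        refine ih _ _ hes (fun y hy => ha y (List.mem_cons_of_mem _ hy))
          (fun y hy => hd y (List.mem_cons_of_mem _ hy)) f1 ?_ ?_
        · intro j
          have := hr j
          match j with
          | 0 => simp only [comp] at this ⊢; linarith
          | 1 => simp only [comp] at this ⊢; linarith
          | 2 => simp only [comp] at this ⊢; linarith
          | 3 => simp only [comp] at this ⊢; linarith
          | n + 4 => simp only [comp] at this ⊢; linarith
        · rw [f2]
          have e : qv (x.a * (xv v * zv v) * d, d * d) = ((x.a * (xv v * zv v) : ℤ) : ℚ) / d := by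
            simp only [qv]
            push_cast
            rw [mul_div_mul_right _ _ (by exact_mod_cast hdx : (d : ℚ) ≠ 0)]
          rw [e]
          linarith

/-- All entries fixed. -/
def allFixed : List (Vec × St) → Option (List (Vec × ℤ))
  | [] => some []
  | (v, St.fx d) :: es => (allFixed es).map ((v, d) :: ·)
  | (_, St.low _) :: _ => none

theorem allFixed_sound : ∀ {es : List (Vec × St)} {L : List Dat} {f : List (Vec × ℤ)}, List.Forall₂ M es L →
    allFixed es = some f → List.Forall₂ (fun e x => x.v = e.1 ∧ x.d = e.2) f L := by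
  intro es L f h
  induction h generalizing f with
  | nil => intro hf; simp [allFixed] at hf; subst hf; exact List.Forall₂.nil
  | @cons e x es L he _ ih =>
    intro hf
    obtain ⟨v, s⟩ := e
    cases s with
    | fx d =>
      simp only [allFixed, Option.map_eq_some_iff] at hf
      obtain ⟨f', hf', rfl⟩ := hf
      exact List.Forall₂.cons he (ih hf')
    | low l => simp [allFixed] at hf

/-! ## The search -/

/-- `true` means that the state has no solution. -/
def search : ℕ → List (Vec × St) → Bool
  | 0, _ => false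
  | f + 1, es =>
    match propList [0, 1, 2, 3, 0, 1, 2, 3] es with
    | none => true
    | some es' =>
      if !wf es' then false
      else if closedDiff es' || combos.any (closedAt es') then true
      else
        match allFixed es' with
        | some fs => invSearch fs (-1, -1, 0, 0) (1, 1)
        | none =>
          match pick es' with
          | none => false
          | some i => (children i es').all (search f)

theorem search_sound : ∀ (f : ℕ) {es : List (Vec × St)} {L : List Dat}, List.Forall₂ M es L → Valid L →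
    search f es = false
  | 0, _, _, _, _ => rfl
  | f + 1, es, L, h, hL => by
    obtain ⟨es', he', h'⟩ := propList_sound hL [0, 1, 2, 3, 0, 1, 2, 3] h
    rw [search, he']
    simp only
    by_cases hw : wf es' = true
    · rw [hw, Bool.not_true, if_neg (by simp)]
      rw [closedDiff_sound h' hL hw, Bool.false_or]
      rw [if_neg (by
        rw [List.any_eq_true]
        rintro ⟨pq, -, hpq⟩
        rw [closedAt_sound h' hL hw pq] at hpq
        exact Bool.false_ne_true hpq)]
      generalize hall : allFixed es' = o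
      cases o with
      | some fs =>
        simp only
        refine invSearch_sound _ _ (allFixed_sound h' hall) hL.good_a ?_ one_pos ?_ ?_
        · intro x hx
          have := four_le_of_good (hL.good_d x hx)
          omega
        · intro j
          rw [hL.rel_a j]
          match j with
          | 0 => rfl
          | 1 => rfl
          | 2 => rfl
          | 3 => rfl
          | n + 4 => rfl
        · have := hL.invol
          simp only [qv]
          push_cast at this ⊢
          rw [div_one]
          linarith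
      | none =>
        simp only
        cases pick es' with
        | none => rfl
        | some i =>
          simp only
          obtain ⟨c, hc, hcM⟩ := children_sound i h' hL.good_d
          rw [List.all_eq_false]
          exact ⟨c, hc, by rw [search_sound f hcM hL]; simp⟩
    · rw [Bool.not_eq_true] at hw
      rw [hw]
      simp

/-! ## The possible coefficient vectors -/

/-- The normalised vectors with entries in `0, ±1`. -/
def vecs : List Vec :=
  ([(1 : ℤ), 0, -1].flatMap fun b => [(1 : ℤ), 0, -1].flatMap fun c => [(1 : ℤ), 0, -1].map fun e =>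
    ((1 : ℤ), b, c, e)) ++
  ([(1 : ℤ), 0, -1].flatMap fun c => [(1 : ℤ), 0, -1].map fun e => ((0 : ℤ), (1 : ℤ), c, e)) ++
  ([(1 : ℤ), 0, -1].map fun e => ((0 : ℤ), (0 : ℤ), (1 : ℤ), e)) ++ [((0 : ℤ), (0 : ℤ), (0 : ℤ), (1 : ℤ))]

/-- Gram entries. -/
def pairs : List (ℕ × ℕ) := [(0, 0), (0, 1), (0, 2), (0, 3), (1, 1), (1, 2), (1, 3), (2, 2), (2, 3), (3, 3)]

/-- The prescribed Gram matrix, without the principal character. -/
def gramTarget : ℕ × ℕ → ℤ
  | (0, 0) => 3
  | (0, 1) => 1
  | (0, 2) => 1
  | (0, 3) => 2
  | (1, 1) => 3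
  | (1, 2) => 2
  | (1, 3) => 1
  | (2, 2) => 4
  | (2, 3) => 2
  | (3, 3) => 4
  | _ => 0

/-- The product of two components. -/
def prd (p : ℕ × ℕ) (v : Vec) : ℤ := comp p.1 v * comp p.2 v

/-- The remaining Gram entry. -/
def rest (cur : List Vec) (p : ℕ × ℕ) : ℤ := gramTarget p - (cur.map (prd p)).sum

/-- Impossible remainders. -/
def badRest (cands cur : List Vec) : Bool :=
  pairs.any fun p =>
    decide (rest cur (p.1, p.1) < |rest cur p|) || decide (rest cur (p.2, p.2) < |rest cur p|) ||
      (cands.all (fun v => decide (comp p.1 v = 0)) && decide (rest cur (p.1, p.1) ≠ 0))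

/-- Every multiset of vectors with the right Gram matrix leads to a refuted degree search. -/
def gsearch : ℕ → List Vec → List Vec → Bool
  | 0, _, _ => false
  | f + 1, cands, cur =>
    if badRest cands cur then true
    else
      match cands with
      | [] =>
        if pairs.all (fun p => decide (rest cur p = 0)) then search 200 (cur.map fun v => (v, St.low 4)) else true
      | v :: vs => gsearch f vs cur && gsearch f (v :: vs) (v :: cur)

theorem gram_bound (L : List Dat) (hL : ∀ x ∈ L, ∀ j, comp j x.v = -1 ∨ comp j x.v = 0 ∨ comp j x.v = 1)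
    (i j : ℕ) : |(L.map fun x => comp i x.v * comp j x.v).sum| ≤ (L.map fun x => comp i x.v * comp i x.v).sum := by
  induction L with
  | nil => simp
  | cons x L ih =>
    simp only [List.map_cons, List.sum_cons]
    refine (abs_add_le _ _).trans (add_le_add ?_ (ih fun y hy => hL y (List.mem_cons_of_mem _ hy)))
    rcases hL x List.mem_cons_self i with h | h | h <;> rcases hL x List.mem_cons_self j with h' | h' | h' <;>
      simp [h, h']

theorem vecs_entries : ∀ v ∈ vecs, ∀ j ∈ [0, 1, 2, 3], comp j v = -1 ∨ comp j v = 0 ∨ comp j v = 1 := by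
  decide +kernel

theorem vecs_small {v : Vec} (hv : v ∈ vecs) (j : ℕ) : comp j v = -1 ∨ comp j v = 0 ∨ comp j v = 1 := by
  match j with
  | 0 => exact vecs_entries v hv 0 (by simp)
  | 1 => exact vecs_entries v hv 1 (by simp)
  | 2 => exact vecs_entries v hv 2 (by simp)
  | 3 => exact vecs_entries v hv 3 (by simp)
  | n + 4 => exact Or.inr (Or.inl rfl)

theorem pairs_swap : ∀ p ∈ pairs, (p.1, p.1) ∈ pairs ∧ (p.2, p.2) ∈ pairs := by decide +kernel

theorem gsearch_sound : ∀ (f : ℕ) (cands cur : List Vec) (Lc L : List Dat), Lc.map (·.v) = cur →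
    (∀ x ∈ L, x.v ∈ cands) → (∀ x ∈ L, x.v ∈ vecs) →
    (∀ p ∈ pairs, (L.map fun x => prd p x.v).sum = rest cur p) → Valid (Lc ++ L) →
    gsearch f cands cur = false := by
  intro f
  induction f with
  | zero => intros; rfl
  | succ f ih =>
    intro cands cur Lc L hcur hc hvec hg hL
    rw [gsearch.eq_def]
    simp only
    have hbad : badRest cands cur = false := by
      rw [badRest, List.any_eq_false]
      intro p hp
      obtain ⟨h1, h2⟩ := pairs_swap p hp
      have e1 : rest cur (p.1, p.1) = (L.map fun x => comp p.1 x.v * comp p.1 x.v).sum := (hg _ h1).symm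
      have e2 : rest cur (p.2, p.2) = (L.map fun x => comp p.2 x.v * comp p.2 x.v).sum := (hg _ h2).symm
      have e3 : rest cur p = (L.map fun x => comp p.1 x.v * comp p.2 x.v).sum := (hg _ hp).symm
      have e4 : rest cur p = (L.map fun x => comp p.2 x.v * comp p.1 x.v).sum := by
        rw [e3]
        simp only [mul_comm]
      have b1 := gram_bound L (fun x hx => vecs_small (hvec x hx)) p.1 p.2
      have b2 := gram_bound L (fun x hx => vecs_small (hvec x hx)) p.2 p.1
      rw [← e3, ← e1] at b1
      rw [← e4, ← e2] at b2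
      simp only [Bool.or_eq_true, Bool.and_eq_true, decide_eq_true_eq, List.all_eq_true, not_or, not_and, not_lt,
        not_not]
      refine ⟨⟨b1, b2⟩, fun h0 => ?_⟩
      rw [e1]
      refine List.sum_eq_zero fun y hy => ?_
      obtain ⟨x, hx, rfl⟩ := List.mem_map.1 hy
      rw [h0 _ (hc x hx), zero_mul]
    rw [hbad, if_neg (by simp)]
    cases cands with
    | nil =>
      have hLnil : L = [] := by
        cases L with
        | nil => rfl
        | cons x L => exact absurd (hc x List.mem_cons_self) (by simp)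
      subst hLnil
      simp only
      rw [if_pos (by
        rw [List.all_eq_true]
        intro p hp
        rw [decide_eq_true_eq, ← hg p hp]
        rfl)]
      rw [List.append_nil] at hL
      refine search_sound 200 (L := Lc) ?_ hL
      subst hcur
      rw [List.map_map]
      have hg4 : ∀ x ∈ Lc, 4 ≤ x.d.natAbs := fun x hx => four_le_of_good (hL.good_d x hx)
      clear hL hc hvec hg hbad ih
      induction Lc with
      | nil => exact List.Forall₂.nil
      | cons x Lc ih' =>
        exact List.Forall₂.cons ⟨rfl, hg4 x List.mem_cons_self⟩ (ih' fun y hy => hg4 y (List.mem_cons_of_mem _ hy))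
    | cons v vs =>
      simp only
      by_cases hex : ∃ x ∈ L, x.v = v
      · obtain ⟨x, hx, hxv⟩ := hex
        obtain ⟨l1, l2, rfl⟩ := List.append_of_mem hx
        have hperm : (Lc ++ (l1 ++ x :: l2)).Perm ((x :: Lc) ++ (l1 ++ l2)) :=
          (List.Perm.append_left Lc List.perm_middle).trans List.perm_middle
        have := ih (v :: vs) (v :: cur) (x :: Lc) (l1 ++ l2) (by simp [hxv, hcur])
          (fun y hy => hc y (by simp only [List.mem_append, List.mem_cons] at hy ⊢; tauto))
          (fun y hy => hvec y (by simp only [List.mem_append, List.mem_cons] at hy ⊢; tauto))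
          (fun p hp => by
            have e := hg p hp
            simp only [List.map_append, List.map_cons, List.sum_append, List.sum_cons, rest, hxv] at e ⊢
            linarith)
          (hL.of_perm hperm)
        rw [this, Bool.and_false]
      · push Not at hex
        have := ih vs cur Lc L hcur (fun y hy => by
          rcases List.mem_cons.1 (hc y hy) with h | h
          · exact absurd h (hex y hy)
          · exact h) hvec hg hL
        rw [this, Bool.false_and]

end CfsgLib.DihNine
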