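import Cfsg.Agent.DihNine.Check

/-!
# The verified search has no survivor
-/

set_option autoImplicit false

namespace CfsgLib.DihNine

set_option maxRecDepth 100000 in
theorem gsearch_true : gsearch 100 vecs [] = true := by decide +kernel

/-- No system of character data exists. -/
theorem no_system (L : List Dat) (hvec : ∀ x ∈ L, x.v ∈ vecs)
    (hg : ∀ p ∈ pairs, (L.map fun x => prd p x.v).sum = gramTarget p) (hL : Valid L) : False := by
  have h := gsearch_sound 100 vecs [] [] L rfl hvec hvec
    (fun p hp => by rw [hg p hp]; simp [rest]) (by simpa using hL)
  rw [gsearch_true] at h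
  exact Bool.false_ne_true h.symm

end CfsgLib.DihNine
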