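import Cfsg.Agent.S3805
import Cfsg.Agent.CharBasics.Burnside
import Cfsg.Agent.Blocks.DetTwist
import Cfsg.Agent.Clifford.LinChar

/-!
# Rational values at elements of order two and six
-/

set_option autoImplicit false

namespace CfsgLib.DihNine

open CfsgLib.CharBasics
open scoped ComplexConjugate

universe u

variable {G : Type u} [Group G] [Finite G]

theorem sign_sum_prod {ι : Type*} [DecidableEq ι] (e : ι → ℤ) (he : ∀ i, e i = 1 ∨ e i = -1) (s : Finset ι) :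
    ((∏ i ∈ s, e i) = 1 ∧ (4 : ℤ) ∣ ∑ i ∈ s, (1 - e i)) ∨
      ((∏ i ∈ s, e i) = -1 ∧ (4 : ℤ) ∣ (∑ i ∈ s, (1 - e i)) - 2) := by
  induction s using Finset.induction_on with
  | empty => simp
  | insert a s ha ih =>
    rw [Finset.prod_insert ha, Finset.sum_insert ha]
    rcases he a with h | h <;> rw [h]
    · simpa using ih
    · rcases ih with ⟨h1, h2⟩ | ⟨h1, h2⟩
      · right; exact ⟨by rw [h1]; rfl, by omega⟩
      · left; exact ⟨by rw [h1]; rfl, by omega⟩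

/-- In a perfect group the value at an involution is congruent to the degree modulo four. -/
theorem value_two (hnc : ∀ μ : G →* ℂ, ∀ g, μ g = 1) {χ : G → ℂ} (h : Cfsg.IsIrrCharacter G χ) {a : G}
    (ha : a ^ 2 = 1) : ∃ A : ℤ, χ a = (A : ℂ) ∧ (4 : ℤ) ∣ A - (Cfsg.charDegree χ : ℤ) := by
  classical
  obtain ⟨lam, hl, hv⟩ := exists_eigen (isCharacter_of_irr h) a
  have hl2 : ∀ i, lam i ^ 2 = 1 := fun i => by
    obtain ⟨k, hk⟩ := orderOf_dvd_of_pow_eq_one ha
    rw [hk, pow_mul, hl i, one_pow]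
  let e : Fin (Cfsg.charDegree χ) → ℤ := fun i => if lam i = 1 then 1 else -1
  have he : ∀ i, lam i = ((e i : ℤ) : ℂ) := by
    intro i
    rcases sq_eq_one_iff.1 (hl2 i) with h1 | h1
    · simp [e, h1]
    · simp [e, h1]
  have hs : χ a = ((∑ i, e i : ℤ) : ℂ) := by
    have h2 : χ a = ∑ i, lam i := by simpa using hv 1
    rw [h2, Int.cast_sum]
    exact Finset.sum_congr rfl fun i _ => he i
  refine ⟨∑ i, e i, hs, ?_⟩
  obtain ⟨μ, hμ⟩ := CfsgLib.Clifford.exists_detHom h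
  have hp : (∏ i, e i) = 1 := by
    have h1 : μ a = ∏ i, lam i := by
      rw [← CfsgLib.DetTwist.detChar_eq_prod h lam hv, hμ]
    rw [hnc μ a, Finset.prod_congr rfl (fun i _ => he i), ← Int.cast_prod] at h1
    exact_mod_cast h1.symm
  rcases sign_sum_prod e (fun i => by by_cases h1 : lam i = 1 <;> simp [e, h1]) Finset.univ with ⟨-, h4⟩ | ⟨h5, -⟩
  · rw [Finset.sum_sub_distrib] at h4
    simp only [Finset.sum_const, Finset.card_univ, Fintype.card_fin, nsmul_eq_mul, mul_one] at h4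
    have : (∑ i, e i) - (Cfsg.charDegree χ : ℤ) = -((Cfsg.charDegree χ : ℤ) - ∑ i, e i) := by ring
    rw [this]
    exact h4.neg_right
  · rw [hp] at h5; norm_num at h5

/-- A real element of order six. -/
theorem value_six {χ : G → ℂ} (h : Cfsg.IsCharacter G χ) {g : G} (hg : g ^ 6 = 1) (hr : IsConj g g⁻¹) :
    ∃ Y A X : ℤ, χ g = (Y : ℂ) ∧ χ (g ^ 3) = (A : ℂ) ∧ χ (g ^ 4) = (X : ℂ) ∧ (2 : ℤ) ∣ Y - X ∧ (3 : ℤ) ∣ Y - A := by
  classical
  have hr4 : IsConj (g ^ 4) (g ^ 4)⁻¹ := by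
    rw [← inv_pow]
    obtain ⟨c, hc⟩ := isConj_iff.1 hr
    exact isConj_iff.2 ⟨c, by rw [← hc, conj_pow]⟩
  obtain ⟨X, hX, -⟩ := Cfsg.Agent.S3805.int_value h (t := g ^ 4)
    (by rw [← pow_mul, show 4 * 3 = 6 * 2 from rfl, pow_mul, hg, one_pow]) hr4
  obtain ⟨lam, hl, hv⟩ := exists_eigen h g
  have hl6 : ∀ i, lam i ^ 6 = 1 := fun i => by
    obtain ⟨k, hk⟩ := orderOf_dvd_of_pow_eq_one hg
    rw [hk, pow_mul, hl i, one_pow]
  let e : Fin (Cfsg.charDegree χ) → ℤ := fun i => if lam i ^ 3 = 1 then 1 else -1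
  let t : Fin (Cfsg.charDegree χ) → ℤ := fun i => if lam i ^ 4 = 1 then 2 else -1
  have he : ∀ i, lam i ^ 3 = ((e i : ℤ) : ℂ) := by
    intro i
    have h2 : (lam i ^ 3) ^ 2 = 1 := by rw [← pow_mul]; exact hl6 i
    rcases sq_eq_one_iff.1 h2 with h1 | h1
    · simp [e, h1]
    · simp [e, h1]
  have ht : ∀ i, lam i ^ 4 + conj (lam i ^ 4) = ((t i : ℤ) : ℂ) := by
    intro i
    have h3 : (lam i ^ 4) ^ 3 = 1 := by rw [← pow_mul, show 4 * 3 = 6 * 2 from rfl, pow_mul, hl6, one_pow]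
    rw [← Complex.inv_eq_conj (Complex.norm_eq_one_of_pow_eq_one h3 (by norm_num))]
    have hinv : (lam i ^ 4)⁻¹ = (lam i ^ 4) ^ 2 :=
      inv_eq_of_mul_eq_one_right (by rw [← pow_succ']; exact h3)
    rw [hinv]
    by_cases h1 : lam i ^ 4 = 1
    · simp [t, h1]; norm_num
    · simp only [t, if_neg h1]
      have h5 : (lam i ^ 4 - 1) * (lam i ^ 4 + (lam i ^ 4) ^ 2 + 1) = 0 := by linear_combination h3
      rcases mul_eq_zero.1 h5 with h6 | h6
      · exact absurd (sub_eq_zero.1 h6) h1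
      · push_cast; linear_combination h6
  have hsplit : ∀ i, lam i = ((e i : ℤ) : ℂ) * lam i ^ 4 := fun i => by
    rw [← he]
    linear_combination (-(lam i)) * hl6 i
  have hg1 : χ g = ∑ i, lam i := by simpa using hv 1
  have hreal : conj (χ g) = χ g := by rw [← apply_inv h, ← apply_isConj h hr]
  have hm : ((∑ i, e i * t i : ℤ) : ℂ) = 2 * χ g := by
    rw [two_mul]
    nth_rewrite 2 [← hreal]
    rw [hg1, map_sum, ← Finset.sum_add_distrib, Int.cast_sum]
    refine Finset.sum_congr rfl fun i _ => ?_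
    rw [Int.cast_mul, ← ht i]
    conv_rhs => rw [hsplit i, map_mul, map_intCast]
    ring
  have hA : χ (g ^ 3) = ((∑ i, e i : ℤ) : ℂ) := by
    rw [hv 3, Int.cast_sum]
    exact Finset.sum_congr rfl fun i _ => he i
  -- the difference of the values at `g` and `g ^ 4` is twice an algebraic integer
  let I : ℂ := ∑ i, (((e i - 1) / 2 : ℤ) : ℂ) * lam i ^ 4
  have hI : IsIntegral ℤ I := IsIntegral.sum _ fun i _ => (isIntegral_algebraMap (R := ℤ)).mul
    ((IsIntegral.of_pow (n := 6) (by norm_num) (by rw [hl6]; exact isIntegral_one)).pow 4)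
  have h2I : 2 * I = χ g - (X : ℂ) := by
    rw [← hX, hv 4, hg1, Finset.mul_sum, ← Finset.sum_sub_distrib]
    refine Finset.sum_congr rfl fun i _ => ?_
    conv_rhs => arg 1; rw [hsplit i]
    by_cases h1 : lam i ^ 3 = 1 <;> simp [e, h1] <;> ring
  have hq : I = algebraMap ℚ ℂ ((((∑ i, e i * t i : ℤ) : ℚ) - 2 * X) / 4) := by
    rw [eq_ratCast]
    push_cast
    rw [Int.cast_sum] at hm
    push_cast at hm
    linear_combination (1 / 2 : ℂ) * h2I - (1 / 4 : ℂ) * hm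
  rw [hq, isIntegral_algebraMap_iff (algebraMap ℚ ℂ).injective] at hI
  obtain ⟨k, hk⟩ := IsIntegrallyClosed.isIntegral_iff.mp hI
  have hk' : (∑ i, e i * t i) = 2 * X + 4 * k := by
    have h5 : ((k : ℤ) : ℚ) = (((∑ i, e i * t i : ℤ) : ℚ) - 2 * X) / 4 := by simpa using hk
    have h6 : ((∑ i, e i * t i : ℤ) : ℚ) = ((2 * X + 4 * k : ℤ) : ℚ) := by push_cast at h5 ⊢; linarith
    exact_mod_cast h6
  have hY : χ g = ((X + 2 * k : ℤ) : ℂ) := by
    have h7 : (2 : ℂ) * χ g = 2 * ((X + 2 * k : ℤ) : ℂ) := by rw [← hm, hk']; push_cast; ring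
    exact mul_left_cancel₀ two_ne_zero h7
  refine ⟨X + 2 * k, ∑ i, e i, X, hY, hA, hX, ⟨k, by ring⟩, ?_⟩
  have h3 : (3 : ℤ) ∣ (∑ i, e i * t i) - 2 * ∑ i, e i := by
    rw [Finset.mul_sum, ← Finset.sum_sub_distrib]
    refine Finset.dvd_sum fun i _ => ?_
    by_cases h1 : lam i ^ 4 = 1 <;> by_cases h2 : lam i ^ 3 = 1 <;> simp [e, t, h1, h2]
  rw [hk'] at h3
  omega

end CfsgLib.DihNine
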