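import Cfsg.Agent.DihNine.Setup
import Cfsg.Agent.DihNine.Values
import Cfsg.Agent.DihNine.Search

/-!
# No simple group has a self-centralising nine-group with dihedral automizer
-/

set_option autoImplicit false

namespace CfsgLib.DihNine

open CfsgLib.CharBasics
open scoped ComplexConjugate

universe u

/-- The special elements: two of order three, two of order six, two involutions. -/
def px : P := ((1, 0), (0, 0))
/-- Second element of order three. -/
def pz : P := ((1, 1), (0, 0))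
/-- Element of order six over the first. -/
def py : P := ((1, 0), (0, 1))
/-- Element of order six over the second. -/
def pw : P := ((1, 1), (1, 1))
/-- The first reflection. -/
def pa : P := ((0, 0), (0, 1))
/-- The second reflection. -/
def pb : P := ((0, 0), (1, 1))
/-- The identity. -/
def pone : P := ((0, 0), (0, 0))

/-- Powers. -/
def powP (p : P) : ℕ → P
  | 0 => pone
  | n + 1 => mulP (powP p n) p

theorem mul_facts :
    powP py 4 = px ∧ powP py 3 = pa ∧ powP py 6 = pone ∧ powP pw 4 = pz ∧ powP pw 3 = pb ∧ powP pw 6 = pone ∧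
    powP pa 2 = pone ∧ powP pb 2 = pone ∧ powP px 3 = pone ∧ powP pz 3 = pone := by
  decide +kernel

theorem conj_facts :
    ¬ conjP px pz ∧ conjP px (powP px 2) ∧ conjP pz (powP pz 2) ∧ conjP py (powP py 5) ∧ conjP pw (powP pw 5) := by
  decide +kernel

theorem cent_facts :
    (Finset.univ.filter fun t : P => mulP t px = mulP px t).card = 18 ∧
    (Finset.univ.filter fun t : P => mulP t pz = mulP pz t).card = 18 ∧
    (Finset.univ.filter fun t : P => mulP t py = mulP py t).card = 6 ∧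
    (Finset.univ.filter fun t : P => mulP t pw = mulP pw t).card = 6 := by
  decide +kernel

theorem count_facts :
    (Finset.univ.filter fun d : V => conjP (d, (0, 0)) px ∧ conjP ((1, 1) - d, (0, 0)) px).card = 2 ∧
    (Finset.univ.filter fun d : V => conjP (d, (0, 0)) pz ∧ conjP ((1, 0) - d, (0, 0)) pz).card = 2 := by
  decide +kernel

theorem classes : ∀ c : V, c ≠ 0 → conjP (c, (0, 0)) px ∨ conjP (c, (0, 0)) pz := by decide +kernel

theorem classes_px : ∀ c : V, conjP (c, (0, 0)) px ↔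
    (c = (1, 0) ∨ c = (2, 0) ∨ c = (0, 1) ∨ c = (0, 2)) := by decide +kernel

theorem cover_facts : ∀ a b c d : Fin 3,
    let v : Vec := ((a.val : ℤ) - 1, (b.val : ℤ) - 1, (c.val : ℤ) - 1, (d.val : ℤ) - 1)
    let s : ℤ := if v.1 ≠ 0 then v.1 else if v.2.1 ≠ 0 then v.2.1 else if v.2.2.1 ≠ 0 then v.2.2.1 else v.2.2.2
    v ≠ (0, 0, 0, 0) → s * s = 1 ∧ (s * v.1, s * v.2.1, s * v.2.2.1, s * v.2.2.2) ∈ vecs := by
  decide +kernel

theorem exists_normal {v : Vec} (h : ∀ j, comp j v = -1 ∨ comp j v = 0 ∨ comp j v = 1) :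
    ∃ s : ℤ, s * s = 1 ∧ (v ≠ (0, 0, 0, 0) → (s * v.1, s * v.2.1, s * v.2.2.1, s * v.2.2.2) ∈ vecs) := by
  by_cases h0 : v = (0, 0, 0, 0)
  · exact ⟨1, by norm_num, fun h' => absurd h0 h'⟩
  obtain ⟨v1, v2, v3, v4⟩ := v
  have e : ∀ z : ℤ, z = -1 ∨ z = 0 ∨ z = 1 → ∃ a : Fin 3, (a.val : ℤ) - 1 = z := by
    rintro z (rfl | rfl | rfl)
    · exact ⟨0, rfl⟩
    · exact ⟨1, rfl⟩
    · exact ⟨2, rfl⟩
  obtain ⟨a, ha⟩ := e v1 (h 0)
  obtain ⟨b, hb⟩ := e v2 (h 1)
  obtain ⟨c, hc⟩ := e v3 (h 2)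
  obtain ⟨d, hd⟩ := e v4 (h 3)
  subst ha hb hc hd
  exact ⟨_, (cover_facts a b c d h0).1, fun _ => (cover_facts a b c d h0).2⟩

theorem xv_smul (s : ℤ) (v : Vec) :
    xv (s * v.1, s * v.2.1, s * v.2.2.1, s * v.2.2.2) = s * xv v ∧
    zv (s * v.1, s * v.2.1, s * v.2.2.1, s * v.2.2.2) = s * zv v ∧
    yv (s * v.1, s * v.2.1, s * v.2.2.1, s * v.2.2.2) = s * yv v ∧
    ∀ j, comp j (s * v.1, s * v.2.1, s * v.2.2.1, s * v.2.2.2) = s * comp j v := by
  refine ⟨by simp only [xv]; ring, by simp only [zv]; ring, by simp only [yv]; ring, fun j => ?_⟩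
  match j with
  | 0 => rfl
  | 1 => rfl
  | 2 => rfl
  | 3 => rfl
  | n + 4 => simp [comp]

theorem conj_of_cubes {G : Type*} [Group G] {v α : G} (hv : v ^ 3 = 1) (haa : α * α = 1) (hw : (v⁻¹ * α) ^ 3 = 1) :
    IsConj v⁻¹ (v⁻¹ * α) := by
  have hainv : α⁻¹ = α := inv_eq_of_mul_eq_one_right haa
  rw [pow_succ, pow_two] at hv hw
  have hvv : v * v = v⁻¹ := eq_inv_of_mul_eq_one_left hv
  have h1 : v⁻¹ * α * v⁻¹ = (α * v⁻¹ * α)⁻¹ := eq_inv_of_mul_eq_one_left (by rw [← hw]; simp only [mul_assoc])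
  have h2 : α * v⁻¹ * α = v * α * v := by
    rw [← inv_inj, ← h1]
    simp only [_root_.mul_inv_rev, hainv, mul_assoc]
  refine isConj_iff.2 ⟨v * α * v⁻¹, ?_⟩
  calc v * α * v⁻¹ * v⁻¹ * (v * α * v⁻¹)⁻¹ = v * (α * v⁻¹ * α⁻¹) * v⁻¹ := by group
    _ = v * (v * α * v) * v⁻¹ := by rw [hainv, h2]
    _ = (v * v) * α := by group
    _ = v⁻¹ * α := by rw [hvv]

theorem sum_V (g : V → ℂ) :
    ∑ c, g c = g (0, 0) + g (0, 1) + g (0, 2) + (g (1, 0) + g (1, 1) + g (1, 2)) + (g (2, 0) + g (2, 1) + g (2, 2)) := by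
  rw [Fintype.sum_prod_type]
  show ∑ i : Fin 3, ∑ j : Fin 3, g (i, j) = _
  rw [Fin.sum_univ_three, Fin.sum_univ_three, Fin.sum_univ_three, Fin.sum_univ_three]
  rfl

set_option maxHeartbeats 4000000 in
theorem not_simple {G : Type u} [Group G] [Finite G] (M : Sylow 3 G) (hM9 : Nat.card (M : Subgroup G) = 9)
    (hMel : ∀ m ∈ (M : Subgroup G), m ^ 3 = 1)
    (hCM : Subgroup.centralizer ((M : Subgroup G) : Set G) = (M : Subgroup G))
    (hCg : ∀ g ∈ (M : Subgroup G), g ≠ 1 →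
      Subgroup.centralizer ({g} : Set G) ≤ Subgroup.normalizer ((M : Subgroup G) : Set G))
    (hF : Nonempty (Frame (M : Subgroup G))) : ¬ IsSimpleGroup G := by
  classical
  intro hsimple
  haveI := hsimple
  haveI := Fintype.ofFinite G
  haveI := Fintype.ofFinite (Cfsg.IrrCharacter G)
  obtain ⟨F⟩ := hF
  have hab : ∀ a ∈ (M : Subgroup G), ∀ b ∈ (M : Subgroup G), a * b = b * a := fun a ha b hb => by
    rw [← hCM] at hb
    exact Subgroup.mem_centralizer_iff.1 hb a ha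
  -- G is not commutative
  have hncomm : ¬ ∀ p q : G, p * q = q * p := by
    intro hc
    have h1 := congrArg (fun g => g) (hc (F.el py) (F.el pb))
    rw [F.el_mul, F.el_mul] at h1
    exact absurd (F.el_injective h1) (by decide +kernel)
  have hnc : ∀ μ : G →* ℂ, ∀ g, μ g = 1 := by
    intro μ g
    rcases hsimple.eq_bot_or_eq_top_of_normal μ.ker inferInstance with hk | hk
    · exfalso
      apply hncomm
      intro p q
      have h1 : μ (p * q * p⁻¹ * q⁻¹) = 1 := by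
        rw [map_mul, map_mul, map_mul]
        have e1 : μ p * μ p⁻¹ = 1 := by rw [← map_mul, mul_inv_cancel, map_one]
        have e2 : μ q * μ q⁻¹ = 1 := by rw [← map_mul, mul_inv_cancel, map_one]
        linear_combination (μ q * μ q⁻¹) * e1 + e2
      have h2 : p * q * p⁻¹ * q⁻¹ ∈ μ.ker := h1
      rw [hk, Subgroup.mem_bot, mul_inv_eq_one, mul_inv_eq_iff_eq_mul] at h2
      exact h2
    · exact (show g ∈ μ.ker from hk ▸ Subgroup.mem_top g)
  -- elements
  have hpow : ∀ (p : P) (n : ℕ), F.el p ^ n = F.el (powP p n) := by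
    intro p n
    induction n with
    | zero => rw [pow_zero, powP]; exact F.el_zero.symm
    | succ n ih => rw [pow_succ, ih, F.el_mul]; rfl
  obtain ⟨hy4, hy3, hy6, hw4, hw3, hw6, ha2, hb2, hx3, hz3⟩ := mul_facts
  have elone : F.el pone = 1 := F.el_zero
  have hto : ∀ p q : P, conjP p q → IsConj (F.el p) (F.el q) := by
    rintro p q ⟨t, ht⟩
    refine isConj_iff.2 ⟨F.el t, ?_⟩
    rw [mul_inv_eq_iff_eq_mul, F.el_mul, F.el_mul, ht]
  obtain ⟨cxz, cxr, czr, cyr, cwr⟩ := conj_facts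
  have hinv : ∀ (p : P) (n : ℕ), powP p (n + 1) = pone → F.el (powP p n) = (F.el p)⁻¹ := by
    intro p n h
    rw [← hpow, eq_inv_iff_mul_eq_one, ← pow_succ, hpow, h, elone]
  have rx : IsConj (F.el px) (F.el px)⁻¹ := by rw [← hinv px 2 hx3]; exact hto _ _ cxr
  have rz : IsConj (F.el pz) (F.el pz)⁻¹ := by rw [← hinv pz 2 hz3]; exact hto _ _ czr
  have ry : IsConj (F.el py) (F.el py)⁻¹ := by rw [← hinv py 5 hy6]; exact hto _ _ cyr
  have rw' : IsConj (F.el pw) (F.el pw)⁻¹ := by rw [← hinv pw 5 hw6]; exact hto _ _ cwr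
  have hM : ∀ c, F.el (c, (0, 0)) ∈ (M : Subgroup G) := fun c => by rw [F.el_f]; exact F.fmem c
  have hne1 : ∀ p, p ≠ pone → F.el p ≠ 1 := fun p hp h => hp (F.el_injective (h.trans elone.symm))
  have hconjM : ∀ c d : V, c ≠ 0 → (IsConj (F.el (c, (0, 0))) (F.el (d, (0, 0))) ↔ conjP (c, (0, 0)) (d, (0, 0))) := by
    intro c d hc
    refine ⟨fun h => ?_, hto _ _⟩
    obtain ⟨g, hg⟩ := isConj_iff.1 h
    have hg' := Cfsg.Agent.S3805.ti M hab hCg (g := g) (hM c)
      (hne1 _ fun e => hc (congrArg Prod.fst e)) (by rw [hg]; exact hM d) hMel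
    obtain ⟨t, rfl⟩ := F.el_surjective hg'
    refine ⟨t, F.el_injective ?_⟩
    rw [← F.el_mul, ← F.el_mul, ← mul_inv_eq_iff_eq_mul]
    exact hg
  have nxz : ¬ IsConj (F.el px) (F.el pz) := fun h => cxz ((hconjM (1, 0) (1, 1) (by decide +kernel)).1 h)
  have npow : ∀ (p q p' q' : P) (n : ℕ), powP p n = p' → powP q n = q' →
      IsConj (F.el p) (F.el q) → IsConj (F.el p') (F.el q') := by
    intro p q p' q' n h1 h2 h
    rw [← h1, ← h2, ← hpow, ← hpow]
    obtain ⟨g, hg⟩ := isConj_iff.1 h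
    exact isConj_iff.2 ⟨g, by rw [← hg, conj_pow]⟩
  have n_one : ∀ p, p ≠ pone → ¬ IsConj (F.el p) 1 := fun p hp h => hne1 p hp (isConj_one_left.1 h)
  have npone : ∀ (p q : P) (n : ℕ), powP p n = pone → powP q n ≠ pone → ¬ IsConj (F.el p) (F.el q) := by
    intro p q n h1 h2 h
    have h' := npow p q _ _ n h1 rfl h
    rw [elone] at h'
    exact n_one _ h2 h'.symm
  have nxy : ¬ IsConj (F.el px) (F.el py) := npone _ _ 3 hx3 (by decide +kernel)
  have nxw : ¬ IsConj (F.el px) (F.el pw) := npone _ _ 3 hx3 (by decide +kernel)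
  have nzy : ¬ IsConj (F.el pz) (F.el py) := npone _ _ 3 hz3 (by decide +kernel)
  have nzw : ¬ IsConj (F.el pz) (F.el pw) := npone _ _ 3 hz3 (by decide +kernel)
  have nyw : ¬ IsConj (F.el py) (F.el pw) := fun h => nxz (npow _ _ _ _ 4 hy4 hw4 h)
  have nax : ¬ IsConj (F.el pa) (F.el px) := npone _ _ 2 ha2 (by decide +kernel)
  have naz : ¬ IsConj (F.el pa) (F.el pz) := npone _ _ 2 ha2 (by decide +kernel)
  have nay : ¬ IsConj (F.el pa) (F.el py) := npone _ _ 2 ha2 (by decide +kernel)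
  have naw : ¬ IsConj (F.el pa) (F.el pw) := npone _ _ 2 ha2 (by decide +kernel)
  -- centralisers
  have hcent : ∀ (p p' : P) (n : ℕ), powP p n = p' → F.el p' ∈ (M : Subgroup G) → F.el p' ≠ 1 →
      Nat.card (Subgroup.centralizer ({F.el p} : Set G)) =
        (Finset.univ.filter fun t : P => mulP t p = mulP p t).card := by
    intro p p' n h1 h2 h3
    rw [← Fintype.card_subtype, ← Nat.card_eq_fintype_card]
    refine (Nat.card_congr (Equiv.ofBijective (fun t : {t : P // mulP t p = mulP p t} =>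
      (⟨F.el t.1, by
        rw [Subgroup.mem_centralizer_singleton_iff, F.el_mul, F.el_mul, t.2]⟩ :
        Subgroup.centralizer ({F.el p} : Set G))) ⟨?_, ?_⟩)).symm
    · intro t t' h
      exact Subtype.ext (F.el_injective (congrArg Subtype.val h))
    · rintro ⟨g, hg⟩
      rw [Subgroup.mem_centralizer_singleton_iff] at hg
      have hg' : g ∈ Subgroup.centralizer ({F.el p'} : Set G) := by
        rw [Subgroup.mem_centralizer_singleton_iff, ← h1, ← hpow]
        exact (show Commute g (F.el p) from hg).pow_right n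
      obtain ⟨t, rfl⟩ := F.el_surjective (hCg _ h2 h3 hg')
      exact ⟨⟨t, F.el_injective (by rw [← F.el_mul, ← F.el_mul, hg])⟩, Subtype.ext rfl⟩
  obtain ⟨k18, k18', k6, k6'⟩ := cent_facts
  have cX : Nat.card (Subgroup.centralizer ({F.el px} : Set G)) = 18 :=
    (hcent px px 1 (by decide +kernel) (hM _) (hne1 _ (by decide +kernel))).trans k18
  have cZ : Nat.card (Subgroup.centralizer ({F.el pz} : Set G)) = 18 :=
    (hcent pz pz 1 (by decide +kernel) (hM _) (hne1 _ (by decide +kernel))).trans k18'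
  have cY : Nat.card (Subgroup.centralizer ({F.el py} : Set G)) = 6 :=
    (hcent py px 4 hy4 (hM _) (hne1 _ (by decide +kernel))).trans k6
  have cW : Nat.card (Subgroup.centralizer ({F.el pw} : Set G)) = 6 :=
    (hcent pw pz 4 hw4 (hM _) (hne1 _ (by decide +kernel))).trans k6'
  -- values
  have hval : ∀ χ : Cfsg.IrrCharacter G, ∃ X Z Y W A : ℤ,
      (χ : G → ℂ) (F.el px) = X ∧ (χ : G → ℂ) (F.el pz) = Z ∧ (χ : G → ℂ) (F.el py) = Y ∧
      (χ : G → ℂ) (F.el pw) = W ∧ (χ : G → ℂ) (F.el pa) = A ∧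
      (3 : ℤ) ∣ X - (Cfsg.charDegree (χ : G → ℂ) : ℤ) ∧ (3 : ℤ) ∣ Z - (Cfsg.charDegree (χ : G → ℂ) : ℤ) ∧
      (2 : ℤ) ∣ Y - X ∧ (2 : ℤ) ∣ W - Z ∧ (3 : ℤ) ∣ Y - A ∧ (4 : ℤ) ∣ A - (Cfsg.charDegree (χ : G → ℂ) : ℤ) := by
    intro χ
    have hc := isCharacter_of_irr χ.2
    obtain ⟨Y, A, X, hY, hA, hX, d2, d3⟩ := value_six hc (g := F.el py) (by rw [hpow, hy6, elone]) ry
    obtain ⟨W, B, Z, hW, -, hZ, e2, -⟩ := value_six hc (g := F.el pw) (by rw [hpow, hw6, elone]) rw'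
    rw [hpow, hy3] at hA
    rw [hpow, hy4] at hX
    rw [hpow, hw4] at hZ
    obtain ⟨X', hX', hX3⟩ := Cfsg.Agent.S3805.int_value hc (t := F.el px) (by rw [hpow, hx3, elone]) rx
    obtain ⟨Z', hZ', hZ3⟩ := Cfsg.Agent.S3805.int_value hc (t := F.el pz) (by rw [hpow, hz3, elone]) rz
    obtain ⟨A', hA', hA4⟩ := value_two hnc χ.2 (a := F.el pa) (by rw [hpow, ha2, elone])
    have ex : X' = X := by exact_mod_cast hX'.symm.trans hX
    have ez : Z' = Z := by exact_mod_cast hZ'.symm.trans hZ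
    have ea : A' = A := by exact_mod_cast hA'.symm.trans hA
    subst ex ez ea
    exact ⟨_, _, _, _, _, hX, hZ, hY, hW, hA, hX3, hZ3, d2, e2, d3, hA4⟩
  choose Xv Zv Yv Wv Av hX hZ hY hW hA h3X h3Z h2Y h2W h3A h4A using hval
  set D : Cfsg.IrrCharacter G → ℤ := fun χ => (Cfsg.charDegree (χ : G → ℂ) : ℤ) with hD
  have hDv : ∀ χ : Cfsg.IrrCharacter G, (χ : G → ℂ) 1 = ((D χ : ℤ) : ℂ) := fun χ => by
    rw [apply_one (isCharacter_of_irr χ.2)]; simp [D]
  -- orthogonality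
  have hcol : ∀ (g h : G) (φ ψ : Cfsg.IrrCharacter G → ℤ),
      (∀ χ : Cfsg.IrrCharacter G, (χ : G → ℂ) g = (φ χ : ℂ)) →
      (∀ χ : Cfsg.IrrCharacter G, (χ : G → ℂ) h = (ψ χ : ℂ)) →
      ∑ χ, φ χ * ψ χ = if IsConj g h then (Nat.card (Subgroup.centralizer ({g} : Set G)) : ℤ) else 0 := by
    intro g h φ ψ h1 h2
    have hs := sum_col g h
    simp only [h1, h2, map_intCast] at hs
    split_ifs at hs ⊢ with hc
    · exact_mod_cast hs
    · exact_mod_cast hs
  have oXX := hcol _ _ _ _ hX hX; rw [if_pos (IsConj.refl _), cX] at oXX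
  have oZZ := hcol _ _ _ _ hZ hZ; rw [if_pos (IsConj.refl _), cZ] at oZZ
  have oYY := hcol _ _ _ _ hY hY; rw [if_pos (IsConj.refl _), cY] at oYY
  have oWW := hcol _ _ _ _ hW hW; rw [if_pos (IsConj.refl _), cW] at oWW
  have oXZ := hcol _ _ _ _ hX hZ; rw [if_neg nxz] at oXZ
  have oXY := hcol _ _ _ _ hX hY; rw [if_neg nxy] at oXY
  have oXW := hcol _ _ _ _ hX hW; rw [if_neg nxw] at oXW
  have oZY := hcol _ _ _ _ hZ hY; rw [if_neg nzy] at oZY
  have oZW := hcol _ _ _ _ hZ hW; rw [if_neg nzw] at oZW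
  have oYW := hcol _ _ _ _ hY hW; rw [if_neg nyw] at oYW
  have oAX := hcol _ _ _ _ hA hX; rw [if_neg nax] at oAX
  have oAZ := hcol _ _ _ _ hA hZ; rw [if_neg naz] at oAZ
  have oAY := hcol _ _ _ _ hA hY; rw [if_neg nay] at oAY
  have oAW := hcol _ _ _ _ hA hW; rw [if_neg naw] at oAW
  have oDX := hcol _ _ _ _ hDv hX; rw [if_neg fun h => n_one px (by decide +kernel) h.symm] at oDX
  have oDZ := hcol _ _ _ _ hDv hZ; rw [if_neg fun h => n_one pz (by decide +kernel) h.symm] at oDZ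
  have oDY := hcol _ _ _ _ hDv hY; rw [if_neg fun h => n_one py (by decide +kernel) h.symm] at oDY
  have oDW := hcol _ _ _ _ hDv hW; rw [if_neg fun h => n_one pw (by decide +kernel) h.symm] at oDW
  -- coefficient vectors
  set c : Cfsg.IrrCharacter G → Vec := fun χ =>
    ((Xv χ + 2 * Zv χ + 3 * Yv χ) / 6, (2 * Xv χ + Zv χ + 3 * Wv χ) / 6,
      (Xv χ + 2 * Zv χ - 3 * Yv χ) / 6, (2 * Xv χ + Zv χ - 3 * Wv χ) / 6) with hc
  have six : ∀ χ, 6 * comp 0 (c χ) = Xv χ + 2 * Zv χ + 3 * Yv χ ∧ 6 * comp 1 (c χ) = 2 * Xv χ + Zv χ + 3 * Wv χ ∧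
      6 * comp 2 (c χ) = Xv χ + 2 * Zv χ - 3 * Yv χ ∧ 6 * comp 3 (c χ) = 2 * Xv χ + Zv χ - 3 * Wv χ := by
    intro χ
    have := h3X χ
    have := h3Z χ
    have := h2Y χ
    have := h2W χ
    simp only [c, comp]
    omega
  have hxv : ∀ χ, xv (c χ) = Xv χ ∧ zv (c χ) = Zv χ ∧ yv (c χ) = Yv χ := by
    intro χ
    obtain ⟨e0, e1, e2, e3⟩ := six χ
    simp only [comp] at e0 e1 e2 e3
    simp only [xv, zv, yv]
    omega
  -- restriction to the nine-group
  have hpxv : ∀ (χ : Cfsg.IrrCharacter G) (d : V), d ≠ 0 →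
      (χ : G → ℂ) (F.f d) = if conjP (d, (0, 0)) px then (Xv χ : ℂ) else (Zv χ : ℂ) := by
    intro χ d hd
    rw [← F.el_f]
    split_ifs with h
    · rw [← hX]; exact apply_isConj (isCharacter_of_irr χ.2) (hto _ _ h)
    · rw [← hZ]; exact apply_isConj (isCharacter_of_irr χ.2) (hto _ _ ((classes d hd).resolve_left h))
  obtain ⟨η, hη3, hη⟩ : ∃ η : ℂ, η ^ 3 = 1 ∧ η ^ 2 + η + 1 = 0 := by
    have hp := Complex.isPrimitiveRoot_exp 3 (by norm_num)
    refine ⟨_, hp.pow_eq_one, ?_⟩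
    have := hp.geom_sum_eq_zero (by norm_num)
    simp [Finset.sum_range_succ] at this
    linear_combination this
  have hmult : ∀ (χ : Cfsg.IrrCharacter G) (l : V → ZMod 3), (∀ c d, l (c + d) = l c + l d) →
      ∃ m : ℕ, ∑ d, (χ : G → ℂ) (F.f d) * conj (η ^ (l d).val) = ((9 * m : ℕ) : ℂ) := by
    intro χ l hl
    let T : Subgroup G := (M : Subgroup G)
    let e : V ≃ T := Equiv.ofBijective (fun d => ⟨F.f d, F.fmem d⟩)
      ⟨fun a b h => F.finj (congrArg Subtype.val h),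
        fun t => by obtain ⟨d, hd⟩ := F.fsurj t t.2; exact ⟨d, Subtype.ext hd⟩⟩
    have hl0 : l 0 = 0 := by
      have := hl 0 0
      rw [add_zero] at this
      exact left_eq_add.1 this
    have he : ∀ d d', e (d + d') = e d * e d' := fun d d' => Subtype.ext (F.fadd d d')
    let μ : T →* ℂ :=
      { toFun := fun t => η ^ (l (e.symm t)).val
        map_one' := by
          have h1 : e.symm 1 = 0 := e.symm_apply_eq.2 (Subtype.ext F.f_zero.symm)
          rw [h1, hl0, ZMod.val_zero, pow_zero]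
        map_mul' := fun s t => by
          have h1 : e.symm (s * t) = e.symm s + e.symm t := e.symm_apply_eq.2 (by rw [he]; simp)
          rw [h1, hl, ← pow_add, ZMod.val_add, ← pow_eq_pow_mod _ hη3] }
    obtain ⟨m, hm⟩ := classInner_character_nat (isCharacter_restrict (isCharacter_of_irr χ.2) T)
      ⟨fun t => μ t, by
        have h := CfsgLib.Clifford.isIrrCharacter_linear_mul (G := ↥T) isIrrCharacter_one μ
        simpa only [mul_one] using h⟩
    refine ⟨m, ?_⟩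
    rw [classInner_eq] at hm
    rw [show Nat.card T = 9 from hM9, inv_mul_eq_iff_eq_mul₀ (by norm_num)] at hm
    push_cast at hm ⊢
    rw [← hm]
    refine Fintype.sum_equiv e _ _ fun d => ?_
    show _ = _ * conj (η ^ (l (e.symm (e d))).val)
    rw [e.symm_apply_apply]
    rfl
  have hηc : (conj η) ^ 2 + conj η + 1 = 0 := by
    have := congrArg conj hη
    simpa using this
  have hd3 : ∀ χ : Cfsg.IrrCharacter G,
      (∃ m : ℕ, D χ + 4 * Xv χ + 4 * Zv χ = 9 * m) ∧ (∃ m : ℕ, D χ + Xv χ - 2 * Zv χ = 9 * m) ∧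
      (∃ m : ℕ, D χ + Zv χ - 2 * Xv χ = 9 * m) := by
    intro χ
    have h00 : (χ : G → ℂ) (F.f (0, 0)) = (D χ : ℂ) := by
      rw [show ((0, 0) : V) = 0 from rfl, F.f_zero, hDv]
    have hsum : ∀ (l : V → ZMod 3),
        ∑ d, (χ : G → ℂ) (F.f d) * conj (η ^ (l d).val) =
          (D χ : ℂ) * conj η ^ (l (0, 0)).val +
          (Xv χ : ℂ) * (conj η ^ (l (0, 1)).val + conj η ^ (l (0, 2)).val + conj η ^ (l (1, 0)).val +
            conj η ^ (l (2, 0)).val) +
          (Zv χ : ℂ) * (conj η ^ (l (1, 1)).val + conj η ^ (l (1, 2)).val + conj η ^ (l (2, 1)).val +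
            conj η ^ (l (2, 2)).val) := by
      intro l
      rw [sum_V]
      simp only [map_pow]
      rw [h00, hpxv χ (0, 1) (by decide +kernel), hpxv χ (0, 2) (by decide +kernel),
        hpxv χ (1, 0) (by decide +kernel), hpxv χ (2, 0) (by decide +kernel),
        hpxv χ (1, 1) (by decide +kernel), hpxv χ (1, 2) (by decide +kernel),
        hpxv χ (2, 1) (by decide +kernel), hpxv χ (2, 2) (by decide +kernel)]
      rw [if_pos ((classes_px (0, 1)).2 (by decide +kernel)),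
        if_pos ((classes_px (0, 2)).2 (by decide +kernel)),
        if_pos ((classes_px (1, 0)).2 (by decide +kernel)),
        if_pos ((classes_px (2, 0)).2 (by decide +kernel)),
        if_neg (fun h => absurd ((classes_px (1, 1)).1 h) (by decide +kernel)),
        if_neg (fun h => absurd ((classes_px (1, 2)).1 h) (by decide +kernel)),
        if_neg (fun h => absurd ((classes_px (2, 1)).1 h) (by decide +kernel)),
        if_neg (fun h => absurd ((classes_px (2, 2)).1 h) (by decide +kernel))]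
      ring
    have e0 : ((0 : ZMod 3)).val = 0 := rfl
    have e1 : ((1 : ZMod 3)).val = 1 := rfl
    have e2 : ((2 : ZMod 3)).val = 2 := rfl
    refine ⟨?_, ?_, ?_⟩
    · obtain ⟨m, hm⟩ := hmult χ (fun _ => 0) (fun _ _ => (add_zero 0).symm)
      refine ⟨m, ?_⟩
      rw [hsum] at hm
      simp only [e0, pow_zero] at hm
      have h' : ((D χ + 4 * Xv χ + 4 * Zv χ : ℤ) : ℂ) = ((9 * (m : ℤ) : ℤ) : ℂ) := by
        push_cast at hm ⊢
        linear_combination hm
      exact_mod_cast h'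
    · obtain ⟨m, hm⟩ := hmult χ (fun d => d.1) (fun _ _ => rfl)
      refine ⟨m, ?_⟩
      rw [hsum] at hm
      simp only [e0, e1, e2, pow_zero, pow_one] at hm
      have h' : ((D χ + Xv χ - 2 * Zv χ : ℤ) : ℂ) = ((9 * (m : ℤ) : ℤ) : ℂ) := by
        push_cast at hm ⊢
        linear_combination hm - ((Xv χ : ℂ) + 2 * (Zv χ : ℂ)) * hηc
      exact_mod_cast h'
    · obtain ⟨m, hm⟩ := hmult χ (fun d => d.1 + d.2) (fun c d => by show (c.1 + d.1) + (c.2 + d.2) = _; ring)
      refine ⟨m, ?_⟩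
      rw [hsum] at hm
      simp only [show ((0 : ZMod 3) + 0) = 0 from rfl, show ((0 : ZMod 3) + 1) = 1 from rfl,
        show ((0 : ZMod 3) + 2) = 2 from rfl, show ((1 : ZMod 3) + 0) = 1 from rfl,
        show ((1 : ZMod 3) + 1) = 2 from rfl, show ((1 : ZMod 3) + 2) = 0 from rfl,
        show ((2 : ZMod 3) + 0) = 2 from rfl, show ((2 : ZMod 3) + 1) = 0 from rfl,
        show ((2 : ZMod 3) + 2) = 1 from rfl, e0, e1, e2, pow_zero, pow_one] at hm
      have h' : ((D χ + Zv χ - 2 * Xv χ : ℤ) : ℂ) = ((9 * (m : ℤ) : ℤ) : ℂ) := by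
        push_cast at hm ⊢
        linear_combination hm - (2 * (Xv χ : ℂ) + (Zv χ : ℂ)) * hηc
      exact_mod_cast h'
  -- the principal character
  set one : Cfsg.IrrCharacter G := oneChar with hone
  have hone' : Xv one = 1 ∧ Zv one = 1 ∧ Yv one = 1 ∧ Wv one = 1 ∧ Av one = 1 ∧ D one = 1 := by
    refine ⟨?_, ?_, ?_, ?_, ?_, ?_⟩
    · exact_mod_cast (hX one).symm.trans (oneChar_apply _)
    · exact_mod_cast (hZ one).symm.trans (oneChar_apply _)
    · exact_mod_cast (hY one).symm.trans (oneChar_apply _)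
    · exact_mod_cast (hW one).symm.trans (oneChar_apply _)
    · exact_mod_cast (hA one).symm.trans (oneChar_apply _)
    · exact_mod_cast (hDv one).symm.trans (oneChar_apply _)
  obtain ⟨oX, oZ, oY, oW, oA, oD⟩ := hone'
  -- non-trivial characters are faithful
  have hsmall : ∀ χ, χ ≠ one → ∀ g : G, g ≠ 1 → ‖(χ : G → ℂ) g‖ ≠ (Cfsg.charDegree (χ : G → ℂ) : ℝ) := by
    intro χ hχ g hg hn
    rcases hsimple.eq_bot_or_eq_top_of_normal _ (charKer_normal (isCharacter_of_irr χ.2)) with hk | hk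
    · apply hg
      rcases hsimple.eq_bot_or_eq_top_of_normal (Subgroup.center G) inferInstance with hz | hz
      · rw [← Subgroup.mem_bot, ← hz, Subgroup.mem_center_iff]
        intro x
        have h1 : x * g * x⁻¹ * g⁻¹ ∈ charKer _ (isCharacter_of_irr χ.2) := commutator_mem_charKer χ.2 hn x
        rw [hk, Subgroup.mem_bot, mul_inv_eq_one, mul_inv_eq_iff_eq_mul] at h1
        exact h1
      · exact absurd (fun p q => (Subgroup.mem_center_iff.mp (hz ▸ Subgroup.mem_top q) p)) hncomm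
    · have hall : ∀ x : G, (χ : G → ℂ) x = (χ : G → ℂ) 1 := fun x => by
        rw [← mem_charKer (isCharacter_of_irr χ.2), hk]; trivial
      have h0 := sum_irr_eq_zero χ.2 (fun h => hχ (Subtype.ext h))
      rw [Finset.sum_congr rfl (fun x _ => hall x), Finset.sum_const, nsmul_eq_mul] at h0
      rcases mul_eq_zero.mp h0 with h | h
      · exact (Fintype.card_ne_zero (α := G)) (Nat.cast_eq_zero (R := ℂ) |>.mp (by simpa using h))
      · exact apply_one_ne_zero χ.2 h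
  have hlt : ∀ χ, χ ≠ one → ∀ (g : G) (v : ℤ), g ≠ 1 → (χ : G → ℂ) g = (v : ℂ) → v.natAbs < (D χ).natAbs := by
    intro χ hχ g v hg hv
    have h1 := norm_le (isCharacter_of_irr χ.2) g
    have h2 := hsmall χ hχ g hg
    have h3 := lt_of_le_of_ne h1 h2
    rw [hv, Complex.norm_intCast, ← Int.cast_abs, ← Nat.cast_natAbs, Nat.cast_lt] at h3
    simpa [D] using h3
  have hgoodD : ∀ χ, χ ≠ one → 4 ≤ (D χ).natAbs := by
    intro χ hχ
    obtain ⟨⟨m0, e0⟩, ⟨p, hp⟩, ⟨q, hq⟩⟩ := hd3 χ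
    have h1 := hlt χ hχ _ _ (hne1 px (by decide +kernel)) (hX χ)
    have h2 := hlt χ hχ _ _ (hne1 pz (by decide +kernel)) (hZ χ)
    omega
  -- the sums
  have hAll : ∀ (φ : Cfsg.IrrCharacter G → ℤ),
      ∑ χ, φ χ = φ one + ∑ χ ∈ Finset.univ.erase one, φ χ := fun φ =>
    (Finset.add_sum_erase _ _ (Finset.mem_univ one)).symm
  have hlinsum : ∀ (φ : Cfsg.IrrCharacter G → ℤ), φ one = 1 →
      ∑ χ, φ χ * Xv χ = 0 → ∑ χ, φ χ * Zv χ = 0 → ∑ χ, φ χ * Yv χ = 0 → ∑ χ, φ χ * Wv χ = 0 →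
      ∀ j, ∑ χ ∈ Finset.univ.erase one, comp j (c χ) * φ χ = targ j := by
    intro φ h1 hx hz hy hw j
    have key : ∀ a b d e : ℤ,
        ∑ χ, φ χ * (a * Xv χ + b * Zv χ + d * Yv χ + e * Wv χ) = 0 := by
      intro a b d e
      simp only [mul_add, Finset.sum_add_distrib, mul_left_comm (φ _), ← Finset.mul_sum, hx, hz, hy, hw]
      ring
    have key' : ∀ a b d e : ℤ,
        ∑ χ ∈ Finset.univ.erase one, φ χ * (a * Xv χ + b * Zv χ + d * Yv χ + e * Wv χ) = -(a + b + d + e) := by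
      intro a b d e
      have h := key a b d e
      rw [hAll, h1, oX, oZ, oY, oW] at h
      linarith
    match j with
    | 0 =>
      have h := key' 1 2 3 0
      rw [Finset.sum_congr rfl (fun χ _ => show φ χ * (1 * Xv χ + 2 * Zv χ + 3 * Yv χ + 0 * Wv χ) =
        6 * (comp 0 (c χ) * φ χ) by rw [← mul_assoc, (six χ).1]; ring), ← Finset.mul_sum] at h
      simp only [targ]; linarith
    | 1 =>
      have h := key' 2 1 0 3
      rw [Finset.sum_congr rfl (fun χ _ => show φ χ * (2 * Xv χ + 1 * Zv χ + 0 * Yv χ + 3 * Wv χ) =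
        6 * (comp 1 (c χ) * φ χ) by rw [← mul_assoc, (six χ).2.1]; ring), ← Finset.mul_sum] at h
      simp only [targ]; linarith
    | 2 =>
      have h := key' 1 2 (-3) 0
      rw [Finset.sum_congr rfl (fun χ _ => show φ χ * (1 * Xv χ + 2 * Zv χ + (-3) * Yv χ + 0 * Wv χ) =
        6 * (comp 2 (c χ) * φ χ) by rw [← mul_assoc, (six χ).2.2.1]; ring), ← Finset.mul_sum] at h
      simp only [targ]; linarith
    | 3 =>
      have h := key' 2 1 0 (-3)
      rw [Finset.sum_congr rfl (fun χ _ => show φ χ * (2 * Xv χ + 1 * Zv χ + 0 * Yv χ + (-3) * Wv χ) =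
        6 * (comp 3 (c χ) * φ χ) by rw [← mul_assoc, (six χ).2.2.2]; ring), ← Finset.mul_sum] at h
      simp only [targ]; linarith
    | n + 4 => simp [comp, targ]
  -- the Gram matrix
  have hgram : ∀ p ∈ pairs, ∑ χ ∈ Finset.univ.erase one, prd p (c χ) = gramTarget p := by
    have key : ∀ a b d e a' b' d' e' : ℤ,
        ∑ χ ∈ Finset.univ.erase one,
          (a * Xv χ + b * Zv χ + d * Yv χ + e * Wv χ) * (a' * Xv χ + b' * Zv χ + d' * Yv χ + e' * Wv χ) =
        18 * a * a' + 18 * b * b' + 6 * d * d' + 6 * e * e' - (a + b + d + e) * (a' + b' + d' + e') := by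
      intro a b d e a' b' d' e'
      have h : ∑ χ, (a * Xv χ + b * Zv χ + d * Yv χ + e * Wv χ) * (a' * Xv χ + b' * Zv χ + d' * Yv χ + e' * Wv χ) =
          18 * a * a' + 18 * b * b' + 6 * d * d' + 6 * e * e' := by
        calc _ = a * a' * ∑ χ, Xv χ * Xv χ + b * b' * ∑ χ, Zv χ * Zv χ + d * d' * ∑ χ, Yv χ * Yv χ +
              e * e' * ∑ χ, Wv χ * Wv χ + (a * b' + b * a') * ∑ χ, Xv χ * Zv χ +
              (a * d' + d * a') * ∑ χ, Xv χ * Yv χ + (a * e' + e * a') * ∑ χ, Xv χ * Wv χ +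
              (b * d' + d * b') * ∑ χ, Zv χ * Yv χ + (b * e' + e * b') * ∑ χ, Zv χ * Wv χ +
              (d * e' + e * d') * ∑ χ, Yv χ * Wv χ := by
              simp only [Finset.mul_sum, ← Finset.sum_add_distrib]
              exact Finset.sum_congr rfl fun χ _ => by ring
          _ = _ := by
              rw [oXX, oZZ, oYY, oWW, oXZ, oXY, oXW, oZY, oZW, oYW]
              push_cast
              ring
      rw [hAll, oX, oZ, oY, oW] at h
      linarith
    let K : ℕ → ℤ × ℤ × ℤ × ℤ := fun i =>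
      if i = 0 then (1, 2, 3, 0) else if i = 1 then (2, 1, 0, 3) else if i = 2 then (1, 2, -3, 0) else (2, 1, 0, -3)
    have hK : ∀ χ, ∀ i < 4, 6 * comp i (c χ) =
        (K i).1 * Xv χ + (K i).2.1 * Zv χ + (K i).2.2.1 * Yv χ + (K i).2.2.2 * Wv χ := by
      intro χ i hi
      obtain ⟨e0, e1, e2, e3⟩ := six χ
      interval_cases i <;> simp only [K] <;> norm_num <;> linarith
    have hlt4 : ∀ p ∈ pairs, p.1 < 4 ∧ p.2 < 4 := by decide +kernel
    intro p hp
    have h := key (K p.1).1 (K p.1).2.1 (K p.1).2.2.1 (K p.1).2.2.2 (K p.2).1 (K p.2).2.1 (K p.2).2.2.1 (K p.2).2.2.2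
    rw [Finset.sum_congr rfl (fun χ _ => show _ = 36 * prd p (c χ) by
      rw [← hK χ p.1 (hlt4 p hp).1, ← hK χ p.2 (hlt4 p hp).2, prd]; ring), ← Finset.mul_sum] at h
    have hnum : ∀ p ∈ pairs, 18 * (K p.1).1 * (K p.2).1 + 18 * (K p.1).2.1 * (K p.2).2.1 +
        6 * (K p.1).2.2.1 * (K p.2).2.2.1 + 6 * (K p.1).2.2.2 * (K p.2).2.2.2 -
        ((K p.1).1 + (K p.1).2.1 + (K p.1).2.2.1 + (K p.1).2.2.2) *
          ((K p.2).1 + (K p.2).2.1 + (K p.2).2.2.1 + (K p.2).2.2.2) = 36 * gramTarget p := by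
      simp only [pairs, List.mem_cons, List.not_mem_nil, or_false]
      rintro p (rfl | rfl | rfl | rfl | rfl | rfl | rfl | rfl | rfl | rfl) <;> simp [K, gramTarget]
    rw [hnum p hp] at h
    linarith
  have hreld := hlinsum D oD (by rw [← oDX]) (by rw [← oDZ]) (by rw [← oDY]) (by rw [← oDW])
  have hrela := hlinsum Av oA (by rw [← oAX]) (by rw [← oAZ]) (by rw [← oAY]) (by rw [← oAW])
  have hsmallc : ∀ χ, χ ≠ one → ∀ j, comp j (c χ) = -1 ∨ comp j (c χ) = 0 ∨ comp j (c χ) = 1 := by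
    intro χ hχ
    have hmem : χ ∈ Finset.univ.erase one := Finset.mem_erase.2 ⟨hχ, Finset.mem_univ _⟩
    have key : ∀ j, (j, j) ∈ pairs → comp j (c χ) = -1 ∨ comp j (c χ) = 0 ∨ comp j (c χ) = 1 := by
      intro j hj
      have hsq := hgram _ hj
      simp only [prd] at hsq
      have h4 : gramTarget (j, j) ≤ 4 := by
        revert j
        simp only [pairs, List.mem_cons, List.not_mem_nil, or_false, Prod.mk.injEq]
        rintro j (⟨rfl, -⟩ | ⟨rfl, h⟩ | ⟨rfl, h⟩ | ⟨rfl, h⟩ | ⟨rfl, -⟩ | ⟨rfl, h⟩ | ⟨rfl, h⟩ | ⟨rfl, -⟩ | ⟨rfl, h⟩ | ⟨rfl, -⟩) <;>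
          first | omega | simp [gramTarget]
      have hr := Finset.add_sum_erase (Finset.univ.erase one) (fun ψ => comp j (c ψ) * comp j (c ψ)) hmem
      have hr0 : 0 ≤ ∑ ψ ∈ (Finset.univ.erase one).erase χ, comp j (c ψ) * comp j (c ψ) :=
        Finset.sum_nonneg fun ψ _ => mul_self_nonneg _
      rw [hsq] at hr
      have hle : comp j (c χ) * comp j (c χ) ≤ 4 := by linarith
      have hb : -2 ≤ comp j (c χ) ∧ comp j (c χ) ≤ 2 := by constructor <;> nlinarith
      by_contra hcon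
      have h22 : comp j (c χ) = 2 ∨ comp j (c χ) = -2 := by omega
      have hrest : ∀ ψ ∈ (Finset.univ.erase one).erase χ, comp j (c ψ) = 0 := by
        have : ∑ ψ ∈ (Finset.univ.erase one).erase χ, comp j (c ψ) * comp j (c ψ) = 0 := by
          rcases h22 with h | h <;> rw [h] at hr <;> linarith
        intro ψ hψ
        exact mul_self_eq_zero.1 ((Finset.sum_eq_zero_iff_of_nonneg (fun ψ _ => mul_self_nonneg _)).1 this ψ hψ)
      have hd := hreld j
      rw [← Finset.add_sum_erase _ (fun ψ => comp j (c ψ) * D ψ) hmem,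
        Finset.sum_eq_zero (fun ψ hψ => by rw [hrest ψ hψ, zero_mul]), add_zero] at hd
      have hD4 := hgoodD χ hχ
      have ht : targ j = -1 ∨ targ j = 0 := by
        match j with
        | 0 => exact Or.inl rfl
        | 1 => exact Or.inl rfl
        | n + 2 => exact Or.inr rfl
      rcases h22 with h | h <;> rw [h] at hd <;> omega
    intro j
    match j with
    | 0 => exact key 0 (by decide +kernel)
    | 1 => exact key 1 (by decide +kernel)
    | 2 => exact key 2 (by decide +kernel)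
    | 3 => exact key 3 (by decide +kernel)
    | n + 4 => exact Or.inr (Or.inl rfl)
  have hsign : ∀ χ, ∃ s : ℤ, s * s = 1 ∧ (χ ≠ one → c χ ≠ (0, 0, 0, 0) →
      (s * (c χ).1, s * (c χ).2.1, s * (c χ).2.2.1, s * (c χ).2.2.2) ∈ vecs) := by
    intro χ
    by_cases hχ : χ = one
    · exact ⟨1, by norm_num, fun h => absurd hχ h⟩
    · obtain ⟨s, h1, h2⟩ := exists_normal (hsmallc χ hχ)
      exact ⟨s, h1, fun _ => h2⟩
  choose sg hsg hsgv using hsign
  set S := (Finset.univ.erase one).filter (fun χ => c χ ≠ (0, 0, 0, 0)) with hS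
  let dat : Cfsg.IrrCharacter G → Dat := fun χ =>
    ⟨(sg χ * (c χ).1, sg χ * (c χ).2.1, sg χ * (c χ).2.2.1, sg χ * (c χ).2.2.2), sg χ * D χ, sg χ * Av χ⟩
  let L : List Dat := S.toList.map dat
  have hL : ∀ (K : Type) [AddCommMonoid K] (φ : Dat → K) (ψ : Cfsg.IrrCharacter G → K),
      (∀ χ, φ (dat χ) = ψ χ) → (∀ χ, χ ≠ one → c χ = (0, 0, 0, 0) → ψ χ = 0) →
      (L.map φ).sum = ∑ χ ∈ Finset.univ.erase one, ψ χ := by
    intro K _ φ ψ h1 h2
    rw [List.map_map, Finset.sum_map_toList]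
    refine (Finset.sum_congr rfl fun χ _ => h1 χ).trans (Finset.sum_filter_of_ne ?_)
    intro χ hχ hne h0
    exact hne (h2 χ (Finset.ne_of_mem_erase hχ) h0)
  have hmemS : ∀ x ∈ L, ∃ χ, χ ≠ one ∧ c χ ≠ (0, 0, 0, 0) ∧ x = dat χ := by
    intro x hx
    obtain ⟨χ, hχ, rfl⟩ := List.mem_map.1 hx
    rw [Finset.mem_toList, hS, Finset.mem_filter, Finset.mem_erase] at hχ
    exact ⟨χ, hχ.1.1, hχ.2, rfl⟩
  have hvec : ∀ x ∈ L, x.v ∈ vecs := by
    intro x hx
    obtain ⟨χ, h1, h2, rfl⟩ := hmemS x hx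
    exact hsgv χ h1 h2
  have hcv : ∀ χ j, comp j (dat χ).v = sg χ * comp j (c χ) := fun χ => (xv_smul (sg χ) (c χ)).2.2.2
  have hc0 : ∀ χ, c χ = (0, 0, 0, 0) → ∀ j, comp j (c χ) = 0 := by
    intro χ h j
    rw [h]
    match j with
    | 0 => rfl
    | 1 => rfl
    | 2 => rfl
    | 3 => rfl
    | n + 4 => rfl
  have hz0 : ∀ χ, c χ = (0, 0, 0, 0) → Xv χ = 0 ∧ Zv χ = 0 := by
    intro χ h
    rw [← (hxv χ).1, ← (hxv χ).2.1, h]
    exact ⟨rfl, rfl⟩
  -- counting
  have hD0 : ∀ χ, ((D χ : ℤ) : ℚ) ≠ 0 := fun χ => by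
    have := charDegree_pos χ.2
    simp only [D, Int.cast_natCast, ne_eq, Nat.cast_eq_zero]
    omega
  have htri : ∀ (u : V) (pu : P) (qu : P), pu = (u, (0, 0)) → u ≠ 0 → powP qu 3 = pone → qu ≠ pone →
      IsConj (F.el qu) (F.el qu)⁻¹ → ¬ IsConj (F.el qu) (F.el pu) →
      Nat.card {v : G // IsConj v (F.el qu) ∧ IsConj (v⁻¹ * F.el pu) (F.el qu)} =
        (Finset.univ.filter fun d : V => conjP (d, (0, 0)) qu ∧ conjP (u - d, (0, 0)) qu).card ∨ qu.2 ≠ (0, 0) := by
    intro u pu qu hpu hu hq3 hq1 hqr hne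
    by_cases hq2 : qu.2 = (0, 0)
    swap
    · exact Or.inr hq2
    left
    obtain ⟨q, qe⟩ := qu
    simp only at hq2
    subst hq2 hpu
    have hq : q ≠ 0 := fun h => hq1 (by rw [h]; rfl)
    have hsub : ∀ d : V, (F.el (d, (0, 0)))⁻¹ * F.el (u, (0, 0)) = F.el (u - d, (0, 0)) := fun d => by
      rw [F.el_f, F.el_f, F.el_f, sub_eq_neg_add, F.fadd, F.f_neg]
    rw [← Fintype.card_subtype, ← Nat.card_eq_fintype_card]
    have hiff : ∀ d : V, IsConj (F.el (d, (0, 0))) (F.el (q, (0, 0))) ↔ conjP (d, (0, 0)) (q, (0, 0)) := by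
      intro d
      by_cases hd : d = 0
      · subst hd
        refine ⟨fun h => ?_, hto _ _⟩
        exact absurd h.symm (by
          rw [show ((0 : V), ((0, 0) : E)) = pone from rfl, elone]
          exact n_one _ hq1)
      · exact hconjM d q hd
    refine (Nat.card_congr (Equiv.ofBijective
      (fun d : {d : V // conjP (d, (0, 0)) (q, (0, 0)) ∧ conjP (u - d, (0, 0)) (q, (0, 0))} =>
        (⟨F.el (d.1, (0, 0)), (hiff _).2 d.2.1, by rw [hsub]; exact (hiff _).2 d.2.2⟩ :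
          {v : G // IsConj v (F.el (q, (0, 0))) ∧ IsConj (v⁻¹ * F.el (u, (0, 0))) (F.el (q, (0, 0)))}))
      ⟨?_, ?_⟩)).symm
    · intro d d' h
      exact Subtype.ext (congrArg Prod.fst (F.el_injective (congrArg Subtype.val h)))
    · rintro ⟨v, hv1, hv2⟩
      have hvM : v ∈ (M : Subgroup G) := by
        have hq3' : F.el (q, (0, 0)) ^ 3 = 1 := by rw [hpow, hq3, elone]
        refine Cfsg.Agent.S3805.triangle M hab hCg hMel (Cfsg.Agent.S3805.conj_cube hv1 hq3') ?_ (hM u)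
          (hne1 _ fun e => hu (congrArg Prod.fst e)) (Cfsg.Agent.S3805.conj_cube hv2 hq3') ?_ ?_
        · rintro rfl
          exact hne1 _ hq1 (isConj_one_right.1 hv1)
        · refine (hv1.trans hqr).trans ?_
          obtain ⟨g, hg⟩ := isConj_iff.1 hv1.symm
          exact isConj_iff.2 ⟨g, by rw [← hg]; group⟩
        · intro h
          exact hne (hv1.symm.trans h)
      obtain ⟨d, rfl⟩ := F.fsurj v hvM
      rw [← F.el_f] at hv1 hv2
      exact ⟨⟨d, (hiff _).1 hv1, (hiff _).1 (by rw [← hsub]; exact hv2)⟩, Subtype.ext (F.el_f d)⟩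
  have hn1 : Nat.card {v : G // IsConj v (F.el px) ∧ IsConj (v⁻¹ * F.el pz) (F.el px)} = 2 :=
    ((htri (1, 1) pz px rfl (by decide +kernel) hx3 (by decide +kernel) rx nxz).resolve_right
      (by decide +kernel)).trans count_facts.1
  have hn2 : Nat.card {v : G // IsConj v (F.el pz) ∧ IsConj (v⁻¹ * F.el px) (F.el pz)} = 2 :=
    ((htri (1, 0) px pz rfl (by decide +kernel) hz3 (by decide +kernel) rz fun h => nxz h.symm).resolve_right
      (by decide +kernel)).trans count_facts.2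
  have hn0 : Nat.card {v : G // IsConj v (F.el px) ∧ IsConj (v⁻¹ * F.el pa) (F.el pz)} = 0 := by
    have hemp : IsEmpty {v : G // IsConj v (F.el px) ∧ IsConj (v⁻¹ * F.el pa) (F.el pz)} := by
      refine ⟨fun ⟨v, hv1, hv2⟩ => ?_⟩
      set α := F.el pa with hα
      have hv3 : v ^ 3 = 1 := Cfsg.Agent.S3805.conj_cube hv1 (by rw [hpow, hx3, elone])
      have hw3' : (v⁻¹ * α) ^ 3 = 1 := Cfsg.Agent.S3805.conj_cube hv2 (by rw [hpow, hz3, elone])
      have haa : α * α = 1 := by rw [← pow_two, hα, hpow, ha2, elone]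
      have hconj : IsConj v⁻¹ (v⁻¹ * α) := conj_of_cubes hv3 haa hw3'
      apply nxz
      refine rx.trans (IsConj.trans ?_ hv2)
      refine IsConj.trans ?_ hconj
      obtain ⟨g, hg⟩ := isConj_iff.1 hv1.symm
      exact isConj_iff.2 ⟨g, by rw [← hg]; group⟩
    exact Nat.card_of_isEmpty
  have hcount : ∀ (p q r : P) (n : ℕ) (φp φq φr : Cfsg.IrrCharacter G → ℤ),
      (∀ χ : Cfsg.IrrCharacter G, (χ : G → ℂ) (F.el p) = (φp χ : ℂ)) →
      (∀ χ : Cfsg.IrrCharacter G, (χ : G → ℂ) (F.el q) = (φq χ : ℂ)) →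
      (∀ χ : Cfsg.IrrCharacter G, (χ : G → ℂ) (F.el r) = (φr χ : ℂ)) →
      Nat.card (Subgroup.centralizer ({F.el p} : Set G)) = 18 →
      Nat.card (Subgroup.centralizer ({F.el q} : Set G)) = 18 →
      Nat.card {v : G // IsConj v (F.el p) ∧ IsConj (v⁻¹ * F.el r) (F.el q)} = n →
      (Nat.card G : ℚ) * ∑ χ, ((φp χ * φq χ * φr χ : ℤ) : ℚ) / (D χ : ℚ) = (n : ℚ) * (18 * 18) := by
    intro p q r n φp φq φr h1 h2 h3 hp hq hn
    have h := Cfsg.Agent.S3805.pairs_count (F.el p) (F.el q) (F.el r)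
    rw [hn, hp, hq] at h
    simp only [h1, h2, h3, hDv, map_intCast] at h
    have h' : (((Nat.card G : ℚ) * ∑ χ, ((φp χ * φq χ * φr χ : ℤ) : ℚ) / (D χ : ℚ) : ℚ) : ℂ) =
        (((n : ℚ) * (18 * 18) : ℚ) : ℂ) := by
      push_cast
      push_cast at h
      exact h.symm
    exact_mod_cast h'
  have e1 := hcount px px pz 2 _ _ _ hX hX hZ cX cX hn1
  have e2 := hcount pz pz px 2 _ _ _ hZ hZ hX cZ cZ hn2
  have e3 := hcount px pz pa 0 _ _ _ hX hZ hA cX cZ hn0
  have hG : (0 : ℚ) < (Nat.card G : ℚ) := by exact_mod_cast Nat.card_pos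
  have hsplitQ : ∀ φ : Cfsg.IrrCharacter G → ℚ, ∑ χ, φ χ = φ one + ∑ χ ∈ Finset.univ.erase one, φ χ := fun φ =>
    (Finset.add_sum_erase _ _ (Finset.mem_univ one)).symm
  have hs : ∀ χ, sg χ ≠ 0 := fun χ h => by have := hsg χ; rw [h] at this; norm_num at this
  have hsQ : ∀ χ, ((sg χ : ℤ) : ℚ) * (sg χ : ℤ) = 1 := fun χ => by exact_mod_cast hsg χ
  have hvalid : Valid L := by
    refine ⟨?_, ?_, ?_, ?_, ?_, ?_⟩
    · intro x hx
      obtain ⟨χ, h1, -, rfl⟩ := hmemS x hx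
      obtain ⟨sx, sz, -, -⟩ := xv_smul (sg χ) (c χ)
      obtain ⟨⟨m0, e0⟩, ⟨m1, e1⟩, ⟨m2, e2⟩⟩ := hd3 χ
      have hD4 := hgoodD χ h1
      have hDpos : 0 ≤ D χ := Int.natCast_nonneg _
      simp only [dat, good, Bool.and_eq_true, decide_eq_true_eq, sx, sz, (hxv χ).1, (hxv χ).2.1]
      rcases (mul_self_eq_one_iff.1 (hsg χ)) with h | h <;> rw [h] <;>
        refine ⟨⟨⟨by omega, by omega, ?_⟩, by omega, ?_⟩, by omega, ?_⟩ <;> nlinarith
    · intro x hx
      obtain ⟨χ, h1, -, rfl⟩ := hmemS x hx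
      obtain ⟨-, -, sy, -⟩ := xv_smul (sg χ) (c χ)
      have := h3A χ
      have := h4A χ
      have := hlt χ h1 _ _ (hne1 pa (by decide +kernel)) (hA χ)
      simp only [dat, aok, decide_eq_true_eq, sy, (hxv χ).2.2]
      simp only [D] at *
      rcases (mul_self_eq_one_iff.1 (hsg χ)) with h | h <;> rw [h] <;> omega
    · intro j
      rw [hL ℤ _ (fun χ => comp j (c χ) * D χ) (fun χ => ?_) (fun χ _ h => by rw [hc0 χ h, zero_mul])]
      · exact hreld j
      · rw [hcv]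
        show sg χ * comp j (c χ) * (sg χ * D χ) = _
        calc _ = (sg χ * sg χ) * (comp j (c χ) * D χ) := by ring
          _ = _ := by rw [hsg, one_mul]
    · intro j
      rw [hL ℤ _ (fun χ => comp j (c χ) * Av χ) (fun χ => ?_) (fun χ _ h => by rw [hc0 χ h, zero_mul])]
      · exact hrela j
      · rw [hcv]
        show sg χ * comp j (c χ) * (sg χ * Av χ) = _
        calc _ = (sg χ * sg χ) * (comp j (c χ) * Av χ) := by ring
          _ = _ := by rw [hsg, one_mul]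
    · refine ⟨648 / (Nat.card G : ℚ), by positivity, ?_, ?_, ?_⟩
      · rw [hL ℚ _ (fun χ => ((Xv χ * Xv χ * Zv χ : ℤ) : ℚ) / (D χ : ℚ)) (fun χ => ?_)
          (fun χ _ h => by rw [(hz0 χ h).1]; simp)]
        · rw [hsplitQ, oX, oZ, oD] at e1
          push_cast at e1 ⊢
          rw [eq_div_iff hG.ne']
          linarith
        · obtain ⟨sx, sz, -, -⟩ := xv_smul (sg χ) (c χ)
          simp only [dat, k1, sx, sz, (hxv χ).1, (hxv χ).2.1]
          push_cast
          rw [div_eq_div_iff (mul_ne_zero (Int.cast_ne_zero.2 (hs χ)) (hD0 χ)) (hD0 χ)]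
          linear_combination ((sg χ : ℚ) * Xv χ * Xv χ * Zv χ * D χ) * hsQ χ
      · rw [hL ℚ _ (fun χ => ((Zv χ * Zv χ * Xv χ : ℤ) : ℚ) / (D χ : ℚ)) (fun χ => ?_)
          (fun χ _ h => by rw [(hz0 χ h).1]; simp)]
        · rw [hsplitQ, oX, oZ, oD] at e2
          push_cast at e2 ⊢
          rw [eq_div_iff hG.ne']
          linarith
        · obtain ⟨sx, sz, -, -⟩ := xv_smul (sg χ) (c χ)
          simp only [dat, k2, sx, sz, (hxv χ).1, (hxv χ).2.1]
          push_cast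
          rw [div_eq_div_iff (mul_ne_zero (Int.cast_ne_zero.2 (hs χ)) (hD0 χ)) (hD0 χ)]
          linear_combination ((sg χ : ℚ) * Xv χ * Zv χ * Zv χ * D χ) * hsQ χ
      · have hle : 1 + (L.map fun x => (x.d : ℚ) ^ 2).sum ≤ (Nat.card G : ℚ) := by
          rw [List.map_map, Finset.sum_map_toList,
            Finset.sum_congr rfl (g := fun χ => ((D χ : ℤ) : ℚ) ^ 2) (fun χ _ => by
              show (((sg χ * D χ : ℤ)) : ℚ) ^ 2 = _
              push_cast
              linear_combination ((D χ : ℚ) ^ 2) * hsQ χ)]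
          have h1 : ∑ χ ∈ S, ((D χ : ℤ) : ℚ) ^ 2 ≤ ∑ χ ∈ Finset.univ.erase one, ((D χ : ℤ) : ℚ) ^ 2 :=
            Finset.sum_le_sum_of_subset_of_nonneg (Finset.filter_subset _ _) fun χ _ _ => sq_nonneg _
          have h2 : ∑ χ, ((D χ : ℤ) : ℚ) ^ 2 = (Nat.card G : ℚ) := by
            have := sum_sq_degree (G := G)
            simp only [D]
            exact_mod_cast this
          rw [hsplitQ, oD] at h2
          push_cast at h2
          linarith
        calc 648 / (Nat.card G : ℚ) * _ ≤ 648 / (Nat.card G : ℚ) * (Nat.card G : ℚ) :=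
              mul_le_mul_of_nonneg_left hle (by positivity)
          _ = 648 := by field_simp
    · rw [hL ℚ _ (fun χ => ((Xv χ * Zv χ * Av χ : ℤ) : ℚ) / (D χ : ℚ)) (fun χ => ?_)
        (fun χ _ h => by rw [(hz0 χ h).1]; simp)]
      · rw [hsplitQ, oX, oZ, oA, oD] at e3
        push_cast at e3 ⊢
        rw [zero_mul] at e3
        rcases mul_eq_zero.1 e3 with h | h
        · exact absurd h hG.ne'
        · linarith
      · obtain ⟨sx, sz, -, -⟩ := xv_smul (sg χ) (c χ)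
        simp only [dat, sx, sz, (hxv χ).1, (hxv χ).2.1]
        push_cast
        rw [div_eq_div_iff (mul_ne_zero (Int.cast_ne_zero.2 (hs χ)) (hD0 χ)) (hD0 χ)]
        linear_combination ((sg χ : ℚ) * Xv χ * Zv χ * Av χ * D χ) * hsQ χ
  refine no_system L hvec (fun p hp => ?_) hvalid
  rw [hL ℤ _ (fun χ => prd p (c χ)) (fun χ => ?_) (fun χ _ h => by rw [prd, hc0 χ h, zero_mul]), hgram p hp]
  simp only [prd, hcv]
  calc _ = (sg χ * sg χ) * (comp p.1 (c χ) * comp p.2 (c χ)) := by ring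
    _ = _ := by rw [hsg, one_mul]

end CfsgLib.DihNine
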