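import Cfsg.Agent.S3341
import Mathlib.GroupTheory.SpecificGroups.Dihedral

/-!
# The normaliser of a self-centralising elementary nine-group with dihedral automizer
-/

set_option autoImplicit false

namespace CfsgLib.DihNine

universe u

/-- The elementary group of order nine. -/
abbrev V : Type := ZMod 3 × ZMod 3

/-- The automizer. -/
abbrev E : Type := Fin 4 × Fin 2

/-- The normaliser. -/
abbrev P : Type := V × E

/-- A linear map given by the images of the basis. -/
def lin (p q c : V) : V := (c.1 * p.1 + c.2 * q.1, c.1 * p.2 + c.2 * q.2)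

/-- The rotation. -/
def rot (c : V) : V := (-c.2, c.1)

/-- The reflection. -/
def refl (c : V) : V := (c.1, -c.2)

/-- The action. -/
def act (e : E) (c : V) : V := rot^[e.1.val] (if e.2 = 0 then c else refl c)

/-- Multiplication in the automizer. -/
def mulE (e e' : E) : E := (if e.2 = 0 then e.1 + e'.1 else e.1 - e'.1, e.2 + e'.2)

/-- Multiplication in the normaliser. -/
def mulP (p q : P) : P := (p.1 + act p.2 q.1, mulE p.2 q.2)

/-- Conjugacy in the normaliser. -/
def conjP (p q : P) : Prop := ∃ t : P, mulP t p = mulP q t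

instance instDecConjP (p q : P) : Decidable (conjP p q) := Fintype.decidableExistsFintype

theorem lin_apply_lin : ∀ c p q : V, c.1.val • p + c.2.val • q = lin p q c := by decide +kernel

theorem rot_eq_lin : ∀ c : V, lin (0, 1) (-1, 0) c = rot c := by decide +kernel

theorem refl_eq_lin : ∀ c : V, lin (1, 0) (0, -1) c = refl c := by decide +kernel

theorem lin_period : ∀ p q : V, (∀ c, lin p q c = 0 → c = 0) →
    (lin p q)^[24] (1, 0) = (1, 0) ∧ (lin p q)^[24] (0, 1) = (0, 1) := by decide +kernel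

set_option synthInstance.maxSize 1024 in
theorem adapted_basis : ∀ pa qa pr qr : V,
    lin pa qa (lin pa qa (1, 0)) = (1, 0) → lin pa qa (lin pa qa (0, 1)) = (0, 1) →
    lin pa qa (lin pr qr (lin pa qa (1, 0))) = lin pr qr (lin pr qr (lin pr qr (1, 0))) →
    lin pa qa (lin pr qr (lin pa qa (0, 1))) = lin pr qr (lin pr qr (lin pr qr (0, 1))) →
    (lin pr qr)^[4] (1, 0) = (1, 0) → (lin pr qr)^[4] (0, 1) = (0, 1) →
    ¬ (lin pr qr (lin pr qr (1, 0)) = (1, 0) ∧ lin pr qr (lin pr qr (0, 1)) = (0, 1)) →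
    ¬ (pa = (1, 0) ∧ qa = (0, 1)) →
    ¬ (lin pr qr (lin pr qr pa) = (1, 0) ∧ lin pr qr (lin pr qr qa) = (0, 1)) →
    ∃ X W : V, lin pa qa X = X ∧ lin pa qa W = -W ∧ lin pr qr X = W ∧ lin pr qr W = -X ∧
      X ≠ 0 ∧ W ≠ 0 ∧ W ≠ X ∧ W ≠ -X := by
  decide +kernel

theorem basis_sum : ∀ c : V, c.1.val • ((1, 0) : V) + c.2.val • ((0, 1) : V) = c := by decide +kernel

theorem lin_basis : ∀ p q : V, lin p q (1, 0) = p ∧ lin p q (0, 1) = q := by decide +kernel

theorem lin_two : ∀ p q : V, lin p q (lin p q (1, 0)) = (1, 0) → lin p q (lin p q (0, 1)) = (0, 1) →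
    ∀ c, lin p q (lin p q c) = c := by decide +kernel

theorem lin_three : ∀ p q s t : V, lin p q (lin p q s) = (1, 0) → lin p q (lin p q t) = (0, 1) →
    ∀ c, lin p q (lin p q (lin s t c)) = c := by decide +kernel

theorem lin_id : ∀ c : V, lin (1, 0) (0, 1) c = c := by decide +kernel

theorem neg_basis : (((-1 : ZMod 3), (0 : ZMod 3)) : V) = -((1, 0) : V) ∧
    (((0 : ZMod 3), (-1 : ZMod 3)) : V) = -((0, 1) : V) := by decide +kernel

theorem act_surj : ∀ (e : E) (c : V), ∃ d, act e d = c := by decide +kernel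

theorem fin_sub_val : ∀ i i' : Fin 4, (i.val + 3 * i'.val) % 4 = (i - i').val := by decide +kernel

theorem dihedral_facts :
    (DihedralGroup.r 1 : DihedralGroup 4) ^ 4 = 1 ∧ (DihedralGroup.sr 0 : DihedralGroup 4) ^ 2 = 1 ∧
    (DihedralGroup.sr 0 : DihedralGroup 4) * DihedralGroup.r 1 * (DihedralGroup.sr 0 : DihedralGroup 4) =
      (DihedralGroup.r 1 : DihedralGroup 4) ^ 3 ∧
    Function.Injective (fun e : E => (DihedralGroup.r 1 : DihedralGroup 4) ^ e.1.val *
      (DihedralGroup.sr 0 : DihedralGroup 4) ^ e.2.val) := by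
  decide +kernel

/-- The data of the normaliser. -/
structure Frame {G : Type u} [Group G] (M : Subgroup G) where
  f : V → G
  r : G
  a : G
  finj : Function.Injective f
  fmem : ∀ c, f c ∈ M
  fsurj : ∀ m ∈ M, ∃ c, f c = m
  fadd : ∀ c d, f (c + d) = f c * f d
  r4 : r ^ 4 = 1
  a2 : a ^ 2 = 1
  ara : a * r * a = r ^ 3
  hr : ∀ c, r * f c * r⁻¹ = f (rot c)
  ha : ∀ c, a * f c * a⁻¹ = f (refl c)
  einj : Function.Injective (fun p : P => f p.1 * (r ^ p.2.1.val * a ^ p.2.2.val))
  esurj : ∀ g ∈ Subgroup.normalizer (M : Set G), ∃ p : P, f p.1 * (r ^ p.2.1.val * a ^ p.2.2.val) = g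

namespace Frame

variable {G : Type u} [Group G] {M : Subgroup G} (F : Frame M)

/-- The element of a pair. -/
def el (p : P) : G := F.f p.1 * (F.r ^ p.2.1.val * F.a ^ p.2.2.val)

theorem f_zero : F.f 0 = 1 := by
  have := F.fadd 0 0
  rw [add_zero] at this
  exact left_eq_mul.1 this

theorem f_neg (c : V) : F.f (-c) = (F.f c)⁻¹ :=
  eq_inv_of_mul_eq_one_left (by rw [← F.fadd, neg_add_cancel, F.f_zero])

theorem conj_pow_r : ∀ (i : ℕ) (c : V), F.r ^ i * F.f c * (F.r ^ i)⁻¹ = F.f (rot^[i] c)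
  | 0, c => by simp
  | i + 1, c => by
    rw [Function.iterate_succ_apply, ← conj_pow_r i (rot c), ← F.hr, pow_succ]
    group

theorem conj_k (e : E) (c : V) :
    (F.r ^ e.1.val * F.a ^ e.2.val) * F.f c * (F.r ^ e.1.val * F.a ^ e.2.val)⁻¹ = F.f (act e c) := by
  have h : F.a ^ e.2.val * F.f c * (F.a ^ e.2.val)⁻¹ = F.f (if e.2 = 0 then c else refl c) := by
    obtain ⟨i, j⟩ := e
    fin_cases j
    · simp
    · simpa using F.ha c
  calc _ = F.r ^ e.1.val * (F.a ^ e.2.val * F.f c * (F.a ^ e.2.val)⁻¹) * (F.r ^ e.1.val)⁻¹ := by group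
    _ = F.f (act e c) := by rw [h, F.conj_pow_r]; rfl

theorem rpow_add (i j : Fin 4) : F.r ^ (i + j).val = F.r ^ i.val * F.r ^ j.val := by
  rw [← pow_add, Fin.val_add, ← pow_eq_pow_mod _ F.r4]

theorem a_mul_self : F.a * F.a = 1 := by rw [← pow_two]; exact F.a2

theorem a_r : ∀ i : ℕ, F.a * F.r ^ i * F.a = F.r ^ (3 * i)
  | 0 => by simp [F.a_mul_self]
  | i + 1 => by
    calc F.a * F.r ^ (i + 1) * F.a = F.a * F.r ^ i * (F.a * F.a) * F.r * F.a := by
          rw [F.a_mul_self, mul_one, pow_succ]; group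
      _ = (F.a * F.r ^ i * F.a) * (F.a * F.r * F.a) := by group
      _ = F.r ^ (3 * (i + 1)) := by rw [a_r i, F.ara, ← pow_add]; congr 1

theorem k_mul (e e' : E) :
    (F.r ^ e.1.val * F.a ^ e.2.val) * (F.r ^ e'.1.val * F.a ^ e'.2.val) =
      F.r ^ (mulE e e').1.val * F.a ^ (mulE e e').2.val := by
  have ha2 : ∀ i j : Fin 2, F.a ^ (i + j).val = F.a ^ i.val * F.a ^ j.val := fun i j => by
    rw [← pow_add, Fin.val_add, ← pow_eq_pow_mod _ F.a2]
  obtain ⟨i, j⟩ := e
  obtain ⟨i', j'⟩ := e'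
  simp only [mulE, ha2]
  fin_cases j
  · simp [F.rpow_add, mul_assoc]
  · have h : F.r ^ (i - i').val = F.r ^ i.val * (F.a * F.r ^ i'.val * F.a) := by
      rw [F.a_r, ← pow_add, pow_eq_pow_mod (i.val + 3 * i'.val) F.r4, fin_sub_val]
    simp only [Fin.mk_one, Fin.isValue, one_ne_zero, if_false, Fin.val_one, pow_one]
    rw [h]
    calc F.r ^ i.val * F.a * (F.r ^ i'.val * F.a ^ j'.val)
        = F.r ^ i.val * F.a * F.r ^ i'.val * (F.a * F.a) * F.a ^ j'.val := by rw [F.a_mul_self]; group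
      _ = _ := by group

theorem el_mul (p q : P) : F.el p * F.el q = F.el (mulP p q) := by
  show F.f p.1 * _ * (F.f q.1 * _) = F.f (p.1 + act p.2 q.1) * _
  rw [F.fadd, ← F.conj_k, show (mulP p q).2 = mulE p.2 q.2 from rfl, ← F.k_mul]
  group

theorem el_injective : Function.Injective F.el := F.einj

theorem el_surjective {g : G} (hg : g ∈ Subgroup.normalizer (M : Set G)) : ∃ p, F.el p = g := F.esurj g hg

theorem el_zero : F.el (0, (0, 0)) = 1 := by simp [el, F.f_zero]

theorem el_f (c : V) : F.el (c, (0, 0)) = F.f c := by simp [el]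

theorem mem_normalizer (p : P) : F.el p ∈ Subgroup.normalizer (M : Set G) := by
  rw [Subgroup.mem_normalizer_iff]
  have hc : ∀ c, F.el p * F.f c * (F.el p)⁻¹ = F.f (act p.2 c) := by
    intro c
    calc F.el p * F.f c * (F.el p)⁻¹
        = F.f p.1 * ((F.r ^ p.2.1.val * F.a ^ p.2.2.val) * F.f c * (F.r ^ p.2.1.val * F.a ^ p.2.2.val)⁻¹) *
            (F.f p.1)⁻¹ := by rw [el]; group
      _ = F.f (act p.2 c) := by
          rw [F.conj_k, ← F.f_neg, ← F.fadd, ← F.fadd]
          congr 1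
          abel
  intro m
  constructor
  · intro hm
    obtain ⟨c, rfl⟩ := F.fsurj m hm
    rw [hc]; exact F.fmem _
  · intro hm
    obtain ⟨c, hc'⟩ := F.fsurj _ hm
    obtain ⟨d, hd⟩ := act_surj p.2 c
    rw [← hd, ← hc] at hc'
    rw [← mul_left_cancel (mul_right_cancel hc')]
    exact F.fmem d

end Frame

/-- Existence of the frame. -/
theorem exists_frame {G : Type u} [Group G] [Finite G] (M : Sylow 3 G) (hM9 : Nat.card (M : Subgroup G) = 9)
    (hMel : ∀ m ∈ (M : Subgroup G), m ^ 3 = 1)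
    (hCM : Subgroup.centralizer ((M : Subgroup G) : Set G) = (M : Subgroup G))
    (N : Subgroup G) (hN : N = Subgroup.normalizer ((M : Subgroup G) : Set G))
    (hS : ∀ S : Sylow 2 ↥N, Nonempty (↥(S : Subgroup ↥N) ≃* DihedralGroup 4)) :
    Nonempty (Frame (M : Subgroup G)) := by
  classical
  haveI : Fact (Nat.Prime 2) := ⟨Nat.prime_two⟩
  haveI : Fact (Nat.Prime 3) := ⟨Nat.prime_three⟩
  have hab : ∀ a ∈ (M : Subgroup G), ∀ b ∈ (M : Subgroup G), a * b = b * a := fun a ha b hb => by
    rw [← hCM] at hb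
    exact Subgroup.mem_centralizer_iff.1 hb a ha
  have hMN : (M : Subgroup G) ≤ N := hN ▸ Subgroup.le_normalizer
  -- a first basis
  obtain ⟨x0, hx0⟩ : ∃ x0 : (M : Subgroup G), x0 ≠ 1 := by
    haveI : Nontrivial (M : Subgroup G) := Finite.one_lt_card_iff_nontrivial.1 (by rw [hM9]; norm_num)
    exact exists_ne 1
  obtain ⟨y0, hy0⟩ : ∃ y0 : G, y0 ∈ (M : Subgroup G) ∧ y0 ∉ Subgroup.zpowers (x0 : G) := by
    by_contra h
    push Not at h
    have hle : (M : Subgroup G) ≤ Subgroup.zpowers (x0 : G) := fun g hg => h g hg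
    have h1 := Subgroup.card_le_of_le hle
    rw [hM9, Nat.card_zpowers] at h1
    have h2 := Nat.le_of_dvd (by norm_num) (orderOf_dvd_of_pow_eq_one (hMel _ x0.2))
    omega
  obtain ⟨f0, f0inj, f0mem, f0surj, f0add, -, -, -⟩ := Cfsg.Agent.S3341.exists_coords (M : Subgroup G) hab hMel hM9
    (x0 : G) y0 x0.2 hy0.1 (fun h => hx0 (Subtype.ext h))
    (fun h => hy0.2 (h ▸ one_mem _)) (fun h => hy0.2 (h ▸ Subgroup.mem_zpowers _))
    (fun h => hy0.2 (h ▸ inv_mem (Subgroup.mem_zpowers _)))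
  have f00 : f0 0 = 1 := by
    have := f0add 0 0
    rw [add_zero] at this
    exact left_eq_mul.1 this
  have f0neg : ∀ c, f0 (-c) = (f0 c)⁻¹ := fun c =>
    eq_inv_of_mul_eq_one_left (by rw [← f0add, neg_add_cancel, f00])
  have f0smul : ∀ (n : ℕ) (c : V), f0 (n • c) = f0 c ^ n := by
    intro n c
    induction n with
    | zero => simp [f00]
    | succ n ih => rw [succ_nsmul, f0add, ih, pow_succ]
  have hconj : ∀ g ∈ N, ∃ p q : V, ∀ c, g * f0 c * g⁻¹ = f0 (lin p q c) := by
    intro g hg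
    rw [hN, Subgroup.mem_normalizer_iff] at hg
    obtain ⟨p, hp⟩ := f0surj _ ((hg _).1 (f0mem (1, 0)))
    obtain ⟨q, hq⟩ := f0surj _ ((hg _).1 (f0mem (0, 1)))
    refine ⟨p, q, fun c => ?_⟩
    have e := basis_sum c
    rw [← lin_apply_lin c p q, f0add, f0smul, f0smul, hp, hq, conj_pow, conj_pow, ← f0smul, ← f0smul]
    calc g * f0 c * g⁻¹ = g * f0 (c.1.val • ((1, 0) : V) + c.2.val • ((0, 1) : V)) * g⁻¹ := by rw [e]
      _ = _ := by rw [f0add]; group
  have hcentral : ∀ g : G, (∀ c, g * f0 c * g⁻¹ = f0 c) → g ∈ (M : Subgroup G) := by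
    intro g h
    rw [← hCM, Subgroup.mem_centralizer_iff]
    intro z hz
    obtain ⟨c, rfl⟩ := f0surj z hz
    exact (mul_inv_eq_iff_eq_mul.1 (h c)).symm
  have hlin_ext : ∀ p q p' q' : V, lin p q (1, 0) = lin p' q' (1, 0) → lin p q (0, 1) = lin p' q' (0, 1) →
      ∀ c, lin p q c = lin p' q' c := by
    intro p q p' q' h1 h2
    have e1 := lin_basis
    rw [(e1 p q).1, (e1 p' q').1] at h1
    rw [(e1 p q).2, (e1 p' q').2] at h2
    intro c
    rw [h1, h2]
  -- the two-group
  obtain ⟨S⟩ : Nonempty (Sylow 2 ↥N) := inferInstance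
  obtain ⟨e⟩ := hS S
  let φ : DihedralGroup 4 →* G := (N.subtype.comp (S : Subgroup ↥N).subtype).comp e.symm.toMonoidHom
  have φinj : Function.Injective φ := fun d d' h => e.symm.injective (Subtype.ext (Subtype.ext h))
  have φN : ∀ d, φ d ∈ N := fun d => ((e.symm d : (S : Subgroup ↥N)) : ↥N).2
  have hd8 : ∀ d : DihedralGroup 4, d ^ 8 = 1 := by decide +kernel
  have hφM : ∀ d, φ d ∈ (M : Subgroup G) → d = 1 := by
    intro d hd
    apply φinj
    rw [map_one]
    have h1 : φ d ^ 8 = 1 := by rw [← map_pow, hd8, map_one]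
    have h2 := pow_gcd_eq_one.2 ⟨h1, hMel _ hd⟩
    simpa using h2
  obtain ⟨hd4, hd2, hd3, hdinj⟩ := dihedral_facts
  set r := φ (DihedralGroup.r 1) with hrdef
  set a := φ (DihedralGroup.sr 0) with hadef
  have r4 : r ^ 4 = 1 := by rw [hrdef, ← map_pow, hd4, map_one]
  have a2 : a ^ 2 = 1 := by rw [hadef, ← map_pow, hd2, map_one]
  have ara : a * r * a = r ^ 3 := by rw [hrdef, hadef, ← map_mul, ← map_mul, hd3, map_pow]
  have ainv : a⁻¹ = a := inv_eq_of_mul_eq_one_right (by rw [← pow_two]; exact a2)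
  obtain ⟨pr, qr, hrc⟩ := hconj r (φN _)
  obtain ⟨pa, qa, hac⟩ := hconj a (φN _)
  have hiter : ∀ (i : ℕ) (c : V), r ^ i * f0 c * (r ^ i)⁻¹ = f0 ((lin pr qr)^[i] c) := by
    intro i
    induction i with
    | zero => intro c; simp
    | succ i ih =>
      intro c
      rw [Function.iterate_succ_apply, ← ih, ← hrc, pow_succ]
      group
  have e1 : ∀ c, lin pa qa (lin pa qa c) = c := by
    intro c
    apply f0inj
    rw [← hac, ← hac]
    calc a * (a * f0 c * a⁻¹) * a⁻¹ = (a * a) * f0 c * (a * a)⁻¹ := by group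
      _ = f0 c := by rw [← pow_two, a2]; group
  have e2 : ∀ c, lin pa qa (lin pr qr (lin pa qa c)) = lin pr qr (lin pr qr (lin pr qr c)) := by
    intro c
    apply f0inj
    rw [← hac, ← hrc, ← hac, show lin pr qr (lin pr qr (lin pr qr c)) = (lin pr qr)^[3] c from rfl, ← hiter 3]
    calc a * (r * (a * f0 c * a⁻¹) * r⁻¹) * a⁻¹
        = (a * r * a) * f0 c * (a * r * a)⁻¹ := by group
      _ = _ := by rw [ara]
  have e3 : ∀ c, (lin pr qr)^[4] c = c := by
    intro c
    apply f0inj
    rw [← hiter 4, r4]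
    group
  have n1 : ¬ (lin pr qr (lin pr qr (1, 0)) = (1, 0) ∧ lin pr qr (lin pr qr (0, 1)) = (0, 1)) := by
    rintro ⟨h1, h2⟩
    have hid := lin_two pr qr h1 h2
    have hm : r ^ 2 ∈ (M : Subgroup G) := hcentral _ fun c => by
      rw [hiter 2]; exact congrArg f0 (hid c)
    rw [hrdef, ← map_pow] at hm
    exact absurd (hφM _ hm) (by decide +kernel)
  have n2 : ¬ (pa = (1, 0) ∧ qa = (0, 1)) := by
    rintro ⟨h1, h2⟩
    have hid : ∀ c, lin pa qa c = c := by
      rw [h1, h2]; exact lin_id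
    have hm : a ∈ (M : Subgroup G) := hcentral _ fun c => by rw [hac, hid]
    exact absurd (hφM _ hm) (by decide +kernel)
  have n3 : ¬ (lin pr qr (lin pr qr pa) = (1, 0) ∧ lin pr qr (lin pr qr qa) = (0, 1)) := by
    rintro ⟨h1, h2⟩
    have hid := lin_three pr qr pa qa h1 h2
    have hm : r ^ 2 * a ∈ (M : Subgroup G) := hcentral _ fun c => by
      calc r ^ 2 * a * f0 c * (r ^ 2 * a)⁻¹ = r ^ 2 * (a * f0 c * a⁻¹) * (r ^ 2)⁻¹ := by group
        _ = f0 c := by rw [hac, hiter 2]; exact congrArg f0 (hid c)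
    rw [hrdef, hadef, ← map_pow, ← map_mul] at hm
    exact absurd (hφM _ hm) (by decide +kernel)
  obtain ⟨X, W, hX1, hW1, hX2, hW2, hX0, hW0, hWX, hWX'⟩ :=
    adapted_basis pa qa pr qr (e1 _) (e1 _) (e2 _) (e2 _) (e3 _) (e3 _) n1 n2 n3
  obtain ⟨f, finj, fmem, fsurj, fadd, f10, f01, fform⟩ := Cfsg.Agent.S3341.exists_coords (M : Subgroup G) hab hMel hM9
    (f0 X) (f0 W) (f0mem X) (f0mem W) (fun h => hX0 (f0inj (h.trans f00.symm)))
    (fun h => hW0 (f0inj (h.trans f00.symm))) (fun h => hWX (f0inj h))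
    (fun h => hWX' (f0inj (h.trans (f0neg X).symm)))
  have fsmul : ∀ (n : ℕ) (c : V), f (n • c) = f c ^ n := by
    intro n c
    induction n with
    | zero =>
      have := fadd 0 0
      rw [add_zero] at this
      simp [left_eq_mul.1 this]
    | succ n ih => rw [succ_nsmul, fadd, ih, pow_succ]
  have fneg : ∀ c, f (-c) = (f c)⁻¹ := fun c =>
    eq_inv_of_mul_eq_one_left (by
      rw [← fadd, neg_add_cancel]
      have := fadd 0 0
      rw [add_zero] at this
      exact left_eq_mul.1 this)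
  have hgen : ∀ (g : G) (p q : V), g * f (1, 0) * g⁻¹ = f p → g * f (0, 1) * g⁻¹ = f q →
      ∀ c, g * f c * g⁻¹ = f (lin p q c) := by
    intro g p q h1 h2 c
    rw [fform c, ← lin_apply_lin c p q, fadd, fsmul, fsmul, ← h1, ← h2, conj_pow, conj_pow, f10, f01]
    group
  have hr' : ∀ c, r * f c * r⁻¹ = f (rot c) := by
    intro c
    rw [← rot_eq_lin c]
    refine hgen r _ _ ?_ ?_ c
    · rw [f10, hrc, hX2, f01]
    · rw [f01, hrc, hW2, f0neg, neg_basis.1, fneg, f10]
  have ha' : ∀ c, a * f c * a⁻¹ = f (refl c) := by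
    intro c
    rw [← refl_eq_lin c]
    refine hgen a _ _ ?_ ?_ c
    · rw [f10, hac, hX1]
    · rw [f01, hac, hW1, f0neg, neg_basis.2, fneg, f01]
  let el : P → G := fun p => f p.1 * (r ^ p.2.1.val * a ^ p.2.2.val)
  have hkφ : ∀ e : E, r ^ e.1.val * a ^ e.2.val =
      φ ((DihedralGroup.r 1 : DihedralGroup 4) ^ e.1.val * (DihedralGroup.sr 0 : DihedralGroup 4) ^ e.2.val) :=
    fun e => by rw [map_mul, map_pow, map_pow]
  have elinj : Function.Injective el := by
    rintro ⟨c, e⟩ ⟨c', e'⟩ h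
    simp only [el, hkφ] at h
    set d := (DihedralGroup.r 1 : DihedralGroup 4) ^ e.1.val * (DihedralGroup.sr 0 : DihedralGroup 4) ^ e.2.val
      with hd
    set d' := (DihedralGroup.r 1 : DihedralGroup 4) ^ e'.1.val * (DihedralGroup.sr 0 : DihedralGroup 4) ^ e'.2.val
      with hd'
    have hm : φ (d * d'⁻¹) ∈ (M : Subgroup G) := by
      rw [map_mul, map_inv]
      have : φ d * (φ d')⁻¹ = (f c)⁻¹ * f c' := by
        calc φ d * (φ d')⁻¹ = (f c)⁻¹ * (f c * φ d) * (φ d')⁻¹ := by group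
          _ = (f c)⁻¹ * f c' := by rw [h]; group
      rw [this]
      exact mul_mem (inv_mem (fmem c)) (fmem c')
    have hdd := mul_inv_eq_one.1 (hφM _ hm)
    rw [hdd] at h
    exact Prod.ext (finj (mul_right_cancel h)) (hdinj hdd)
  have elN : ∀ p, el p ∈ N := fun p => mul_mem (hMN (fmem _)) (by rw [hkφ]; exact φN _)
  have hcard : Nat.card N ∣ 72 := by
    have hprimes : ∀ p : ℕ, p.Prime → p ∣ Nat.card N → p = 2 ∨ p = 3 := by
      intro p hp hpd
      haveI : Fact p.Prime := ⟨hp⟩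
      obtain ⟨g, hg⟩ := exists_prime_orderOf_dvd_card' p hpd
      obtain ⟨p', q', hgc⟩ := hconj (g : G) g.2
      have hinj : ∀ c, lin p' q' c = 0 → c = 0 := by
        intro c hc
        apply f0inj
        have h := hgc c
        rw [hc, f00] at h
        rw [f00]
        exact conj_eq_one_iff.1 h
      obtain ⟨h1, h2⟩ := lin_period p' q' hinj
      have hit : ∀ (i : ℕ) (c : V), (g : G) ^ i * f0 c * ((g : G) ^ i)⁻¹ = f0 ((lin p' q')^[i] c) := by
        intro i
        induction i with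
        | zero => intro c; simp
        | succ i ih =>
          intro c
          rw [Function.iterate_succ_apply, ← ih, ← hgc, pow_succ]
          group
      have hlin : ∀ c, (lin p' q')^[24] c = c := by
        have hadd : ∀ (i : ℕ) (c d : V), (lin p' q')^[i] (c + d) = (lin p' q')^[i] c + (lin p' q')^[i] d := by
          intro i
          induction i with
          | zero => intros; rfl
          | succ i ih =>
            intro c d
            rw [Function.iterate_succ_apply', Function.iterate_succ_apply', Function.iterate_succ_apply', ih]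
            simp only [lin, Prod.mk_add_mk, Prod.fst_add, Prod.snd_add]
            ext <;> ring
        have hsm : ∀ (n : ℕ) (c : V), (lin p' q')^[24] (n • c) = n • (lin p' q')^[24] c := by
          intro n c
          induction n with
          | zero =>
            rw [zero_nsmul, zero_nsmul]
            have := hadd 24 0 0
            rw [add_zero] at this
            exact left_eq_add.1 this
          | succ n ih => rw [succ_nsmul, succ_nsmul, hadd, ih]
        intro c
        conv_lhs => rw [← basis_sum c]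
        rw [hadd, hsm, hsm, h1, h2, basis_sum]
      have hmem : (g : G) ^ 24 ∈ (M : Subgroup G) := hcentral _ fun c => by rw [hit, hlin]
      have h72 : (g : G) ^ 72 = 1 := by
        rw [show 72 = 24 * 3 from rfl, pow_mul]; exact hMel _ hmem
      have hdvd := orderOf_dvd_of_pow_eq_one h72
      rw [Subgroup.orderOf_coe, hg] at hdvd
      have hle := Nat.le_of_dvd (by norm_num) hdvd
      interval_cases p <;> revert hp hdvd <;> decide
    have h2 : (Nat.card N).factorization 2 = 3 := by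
      have h := S.card_eq_multiplicity
      rw [Nat.card_congr e.toEquiv, DihedralGroup.nat_card] at h
      exact (Nat.pow_right_injective le_rfl (h.symm.trans (show 2 * 4 = 2 ^ 3 by rfl)))
    have h3 : (Nat.card N).factorization 3 ≤ 2 := by
      have h := M.card_eq_multiplicity
      rw [hM9] at h
      have h9 : (Nat.card G).factorization 3 = 2 :=
        (Nat.pow_right_injective (by norm_num : 2 ≤ 3) (h.symm.trans (show 9 = 3 ^ 2 by rfl)))
      rw [← h9]
      exact ((Nat.factorization_le_iff_dvd Nat.card_pos.ne' Nat.card_pos.ne').2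
        (Subgroup.card_subgroup_dvd_card N)) 3
    rw [← Nat.factorization_le_iff_dvd Nat.card_pos.ne' (by norm_num)]
    have e72 : (72 : ℕ).factorization 2 = 3 ∧ (72 : ℕ).factorization 3 = 2 := by
      rw [show (72 : ℕ) = 2 ^ 3 * 3 ^ 2 from rfl, Nat.factorization_mul (by norm_num) (by norm_num),
        Nat.prime_two.factorization_pow, Nat.prime_three.factorization_pow]
      simp
    intro p
    by_cases hp2 : p = 2
    · rw [hp2, h2, e72.1]
    by_cases hp3 : p = 3
    · rw [hp3, e72.2]; exact h3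
    · by_cases hp : p.Prime
      · rw [Nat.factorization_eq_zero_of_not_dvd fun hd => (hprimes p hp hd).elim hp2 hp3]
        exact Nat.zero_le _
      · rw [Nat.factorization_eq_zero_of_not_prime _ hp]
        exact Nat.zero_le _
  have hsurj : ∀ g ∈ N, ∃ p, el p = g := by
    let ψ : P → N := fun p => ⟨el p, elN p⟩
    have hψ : Function.Injective ψ := fun p q h => elinj (congrArg Subtype.val h)
    have hb : Function.Bijective ψ := hψ.bijective_of_nat_card_le (by
      refine (Nat.le_of_dvd (by norm_num) hcard).trans ?_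
      simp [Nat.card_eq_fintype_card])
    intro g hg
    obtain ⟨p, hp⟩ := hb.2 ⟨g, hg⟩
    exact ⟨p, congrArg Subtype.val hp⟩
  exact ⟨{ f := f, r := r, a := a, finj := finj, fmem := fmem, fsurj := fsurj, fadd := fadd, r4 := r4, a2 := a2,
           ara := ara, hr := hr', ha := ha', einj := elinj, esurj := fun g hg => hsurj g (hN ▸ hg) }⟩

end CfsgLib.DihNine
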